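import Cfsg.Agent.Lib.CosetEnum.Fi22Norm.Defs

/-! Generated data for the subgroups of order three in Fi22. -/

set_option autoImplicit false
set_option maxRecDepth 40000

namespace Cfsg.Lib.CosetEnum.Fi22Norm.ThreeLocal

/-- Four words generating a Sylow 3-subgroup with the normal ones. -/
def sws : List (List Nat) :=
  [
  [1, 2, 3, 7, 5, 4, 3, 2, 1, 0, 1, 2, 3, 4, 5, 7, 3, 2, 1, 3, 7, 2, 3, 4, 1, 2, 3, 7, 8, 3, 7, 5, 2, 3, 4, 1, 2, 3, 7, 6, 5, 4, 3, 2, 1, 0, 1, 2, 3, 4, 5, 6, 7, 3, 2, 1, 4, 3, 2, 5, 7, 3, 8, 7, 3, 2, 1, 4, 3, 2, 7, 3, 7, 3, 4, 2, 3, 7, 5, 4, 3, 2, 0, 1, 0, 1, 0, 2, 3, 4, 5, 7, 3, 2, 4, 3, 7, 4, 1, 2, 3, 7, 6, 5, 4, 3, 2, 1, 0, 1, 2, 3, 4, 5, 6, 7, 3, 2, 1, 4],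
  [3, 4, 2, 3, 7, 8, 4, 5, 3, 4, 2, 3, 7, 6, 5, 4, 3, 2, 1, 0, 1, 2, 3, 4, 5, 6, 7, 3, 2, 4, 3, 5, 4, 8, 7, 3, 2, 4, 3, 0],
  [6, 5, 4, 2, 3, 1, 2, 0, 1, 0, 1, 0, 2, 1, 3, 2, 4, 5, 6, 5, 4, 2, 3, 1, 2, 0, 1, 0, 1, 0, 2, 1, 3, 2, 4, 5],
  [3, 4, 2, 3, 1, 2, 0, 1, 0, 1, 0, 2, 1, 3, 2, 4, 3, 7, 2, 3, 1, 2, 0, 1, 0, 1, 0, 2, 1, 3, 2, 7]]

/-- Five words generating an elementary normal subgroup. -/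
def aws : List (List Nat) :=
  [
  [1, 0, 1, 0],
  [8, 5, 2, 3, 4, 1, 2, 3, 7, 6, 5, 4, 3, 2, 1, 0, 1, 2, 3, 4, 5, 6, 7, 3, 2, 1, 4, 3, 2, 5, 8, 3, 4, 2, 3, 1, 2, 0, 1, 0, 1, 0, 2, 1, 3, 2, 4, 3],
  [4, 3, 7, 8, 5, 2, 3, 4, 1, 2, 3, 7, 6, 5, 4, 3, 2, 1, 0, 1, 2, 3, 4, 5, 6, 7, 3, 2, 1, 4, 3, 2, 5, 8, 7, 3, 4, 7, 2, 3, 1, 2, 0, 1, 0, 1, 0, 2, 1, 3, 2, 7],
  [8, 7, 3, 4, 2, 3, 7, 8, 1, 2, 3, 7, 6, 5, 4, 3, 2, 1, 0, 1, 2, 3, 4, 5, 6, 7, 3, 2, 1, 8, 7, 3, 2, 4, 3, 7, 8, 5, 4, 2, 3, 1, 2, 0, 1, 0, 1, 0, 2, 1, 3, 2, 4, 5],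
  [8, 7, 2, 3, 4, 1, 2, 3, 7, 6, 5, 4, 3, 2, 1, 0, 1, 2, 3, 4, 5, 6, 7, 3, 2, 1, 4, 3, 2, 7, 8, 2, 3, 4, 1, 2, 3, 7, 5, 4, 3, 2, 1, 0, 1, 2, 3, 4, 5, 7, 3, 2, 1, 4, 3, 2]]

/-- The series. -/
def pws : List (List Nat) := sws ++ aws

/-- Exponents of the conjugates along the series. -/
def relc : List (List Nat) :=
  [
  [0, 414, 56, 1869, 324, 2025, 1458, 432, 3780],
  [0, 0, 1, 3, 144, 27, 81, 243, 882],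
  [0, 0, 0, 1, 3, 9, 27, 144, 369],
  [0, 0, 0, 0, 1, 24, 3, 27, 90],
  [0, 0, 0, 0, 0, 1, 3, 9, 27],
  [0, 0, 0, 0, 0, 0, 1, 3, 9],
  [0, 0, 0, 0, 0, 0, 0, 1, 3],
  [0, 0, 0, 0, 0, 0, 0, 0, 1],
  [0, 0, 0, 0, 0, 0, 0, 0, 0]]

/-- Points with small orbits under the later words. -/
def orbs : List (Nat × List Nat) :=
  [
  (0, [0, 894, 1, 962, 1142, 2, 1079, 1099, 1279]),
  (0, [0, 1, 2]),
  (41, [41, 720, 1174]),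
  (27, [27, 682, 989]),
  (0, [0]),
  (2574, [2574]),
  (40, [40]),
  (22, [22]),
  (3, [3])]

/-- Images of the basis. -/
def mats : List (List Nat) :=
  [
  [12, 75, 54, 16, 140],
  [16, 3, 9, 27, 98],
  [1, 3, 9, 48, 123],
  [1, 24, 3, 27, 90]]

/-- Conjugation to the representatives modulo the normal subgroup. -/
def paths : List (Nat × List Nat × Nat) :=
  [
  (0, [], 0),
  (1, [], 0),
  (2, [], 0),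
  (3, [], 0),
  (4, [], 0),
  (5, [], 0),
  (6, [], 0),
  (7, [], 0),
  (8, [], 0),
  (6, [0, 0], 48),
  (7, [0, 0], 48),
  (8, [0, 0], 48),
  (12, [], 0),
  (1, [1, 1], 48),
  (2, [2, 2], 22),
  (15, [], 0),
  (4, [1, 1], 48),
  (5, [2, 2], 16),
  (3, [0, 0], 75),
  (4, [1], 75),
  (5, [2], 17),
  (21, [], 0),
  (7, [1], 75),
  (8, [2], 23),
  (24, [], 0),
  (1, [1], 75),
  (2, [2], 2),
  (3, [0], 15),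
  (4, [0], 15),
  (5, [0], 15),
  (21, [0], 1),
  (7, [0, 3], 15),
  (8, [1], 15),
  (12, [0], 17),
  (1, [3, 3], 15),
  (2, [1], 15),
  (24, [0, 0], 33),
  (1, [2, 2], 12),
  (2, [3, 3], 27),
  (39, [], 0),
  (4, [2, 0], 1),
  (5, [3, 0], 27),
  (42, [], 0),
  (7, [2, 2], 12),
  (8, [3, 3], 27),
  (21, [0, 0], 60),
  (7, [0, 2], 24),
  (8, [0, 3], 54),
  (48, [], 0),
  (1, [2, 3], 24),
  (2, [1, 2], 2),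
  (39, [0], 77),
  (4, [0, 1], 54),
  (5, [0, 2], 17),
  (6, [0], 21),
  (7, [0], 21),
  (8, [0], 21),
  (24, [0], 16),
  (1, [3], 21),
  (2, [1, 1], 21),
  (15, [0], 23),
  (4, [3], 21),
  (5, [0, 1], 21),
  (15, [0, 0], 30),
  (4, [1, 2], 63),
  (5, [2, 3], 56),
  (42, [0, 0], 51),
  (7, [1, 2], 63),
  (8, [2, 3], 71),
  (69, [], 0),
  (1, [1, 2], 63),
  (2, [2, 3], 77),
  (12, [0, 0], 57),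
  (1, [2], 9),
  (2, [3], 69),
  (39, [0, 0], 78),
  (4, [2], 9),
  (5, [3], 69),
  (42, [0], 56),
  (7, [2], 9),
  (8, [3], 69)]

/-- A class modulo the normal subgroup. -/
structure RepInfo where
  /-- The representative. -/
  r : Nat
  /-- The class of its cube. -/
  tt : Nat
  /-- The vector of its cube. -/
  c : Nat
  /-- Its action. -/
  m : List Nat
  /-- Elements centralising it modulo the normal subgroup. -/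
  gq : List (Nat × Nat × List Nat)
  /-- The elements of order three above it, with their predecessors and moves. -/
  es : List (Nat × Nat × Nat × Nat)

/-- The class of 0. -/
def rep0 : RepInfo :=
  ⟨0, 0, 0, [1, 3, 9, 27, 81], [(1, 0, [12, 75, 54, 16, 140]), (3, 0, [16, 3, 9, 27, 98])],
    [(1, 0, 0, 0), (12, 0, 1, 0), (16, 0, 2, 0), (48, 1, 1, 0), (18, 2, 1, 0), (22, 2, 2, 0), (27, 4, 1, 0), (6, 5, 1, 0),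
     (42, 7, 1, 0), (2, 9, 0, 0), (24, 9, 1, 0), (23, 9, 2, 0), (69, 10, 1, 0), (9, 11, 1, 0), (17, 11, 2, 0), (54, 13, 1, 0),
     (3, 14, 1, 0), (75, 16, 1, 0), (4, 18, 0, 0), (60, 18, 1, 0), (10, 18, 2, 0), (29, 19, 1, 0), (66, 20, 1, 0), (25, 20, 2, 0),
     (50, 21, 2, 0), (44, 22, 1, 0), (72, 23, 1, 0), (5, 27, 0, 0), (63, 27, 1, 0), (26, 27, 2, 0), (77, 28, 1, 0), (57, 29, 1, 0),
     (11, 29, 2, 0), (71, 30, 2, 0), (78, 32, 1, 0), (56, 33, 2, 0), (7, 36, 0, 0), (45, 36, 1, 0), (13, 36, 2, 0), (43, 37, 1, 0),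
     (33, 38, 1, 0), (19, 38, 2, 0), (49, 39, 2, 0), (39, 41, 1, 0), (28, 42, 2, 0), (8, 45, 0, 0), (30, 45, 1, 0), (20, 45, 2, 0),
     (55, 46, 1, 0), (51, 47, 1, 0), (14, 47, 2, 0), (70, 48, 2, 0), (76, 49, 1, 0), (36, 50, 1, 0), (15, 54, 0, 0), (21, 55, 0, 0),
     (31, 56, 0, 0), (67, 56, 1, 0), (37, 56, 2, 0), (47, 57, 1, 0), (73, 57, 2, 0), (52, 58, 2, 0), (41, 59, 2, 0), (35, 60, 1, 0),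
     (61, 60, 2, 0), (32, 65, 0, 0), (79, 65, 1, 0), (53, 65, 2, 0), (68, 66, 1, 0), (58, 66, 2, 0), (64, 67, 1, 0), (38, 67, 2, 0),
     (62, 68, 2, 0), (74, 69, 1, 0), (34, 74, 0, 0), (40, 74, 2, 0), (46, 75, 2, 0), (59, 77, 0, 0), (80, 77, 2, 0), (65, 78, 2, 0),
     (81, 80, 0, 0), (140, 80, 1, 0), (98, 80, 2, 0), (115, 81, 1, 0), (139, 81, 2, 0), (143, 82, 1, 0), (97, 82, 2, 0), (126, 83, 2, 0),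
     (130, 84, 1, 0), (159, 84, 2, 0), (100, 85, 1, 0), (142, 85, 2, 0), (158, 86, 1, 0), (90, 87, 1, 0), (116, 87, 2, 0), (150, 88, 1, 0),
     (123, 88, 2, 0), (112, 89, 1, 0), (93, 90, 2, 0), (153, 91, 2, 0), (157, 92, 2, 0), (113, 93, 1, 0), (107, 93, 2, 0), (131, 96, 2, 0),
     (132, 97, 2, 0), (101, 98, 2, 0), (106, 99, 1, 0), (82, 107, 0, 0), (152, 107, 1, 0), (102, 107, 2, 0), (154, 108, 1, 0), (151, 108, 2, 0),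
     (161, 109, 1, 0), (83, 109, 2, 0), (147, 110, 2, 0), (135, 111, 2, 0), (127, 112, 1, 0), (160, 112, 2, 0), (155, 113, 1, 0), (91, 114, 1, 0),
     (120, 116, 2, 0), (124, 117, 1, 0), (144, 117, 2, 0), (94, 118, 1, 0), (125, 119, 1, 0), (84, 119, 2, 0), (128, 120, 2, 0), (108, 121, 2, 0),
     (133, 122, 1, 0), (87, 123, 2, 0), (134, 125, 1, 0), (92, 125, 2, 0), (117, 128, 2, 0), (95, 129, 2, 0), (85, 134, 0, 0), (110, 134, 1, 0),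
     (105, 134, 2, 0), (141, 135, 1, 0), (109, 135, 2, 0), (119, 136, 1, 0), (86, 136, 2, 0), (149, 137, 2, 0), (156, 138, 1, 0), (129, 138, 2, 0),
     (114, 139, 1, 0), (118, 139, 2, 0), (122, 140, 1, 0), (88, 141, 1, 0), (148, 141, 2, 0), (145, 142, 1, 0), (137, 142, 2, 0), (138, 143, 1, 0),
     (111, 145, 2, 0), (99, 146, 1, 0), (121, 146, 2, 0), (104, 147, 1, 0), (103, 148, 1, 0), (136, 150, 2, 0), (146, 151, 2, 0), (89, 153, 2, 0),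
     (96, 154, 1, 0), (162, 161, 0, 0), (196, 161, 1, 0), (184, 161, 2, 0), (221, 162, 1, 0), (197, 162, 2, 0), (193, 163, 1, 0), (185, 163, 2, 0),
     (225, 164, 2, 0), (233, 165, 1, 0), (201, 165, 2, 0), (173, 166, 1, 0), (194, 166, 2, 0), (205, 167, 1, 0), (180, 168, 1, 0), (220, 168, 2, 0),
     (210, 169, 1, 0), (237, 169, 2, 0), (224, 170, 1, 0), (186, 171, 2, 0), (198, 172, 2, 0), (206, 173, 2, 0), (223, 174, 1, 0), (175, 174, 2, 0),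
     (232, 177, 2, 0), (228, 178, 2, 0), (172, 179, 2, 0), (176, 180, 1, 0), (163, 188, 0, 0), (199, 188, 1, 0), (164, 188, 2, 0), (188, 189, 1, 0),
     (200, 189, 2, 0), (211, 190, 1, 0), (177, 190, 2, 0), (165, 191, 2, 0), (213, 192, 2, 0), (212, 193, 2, 0), (202, 194, 1, 0), (181, 195, 1, 0),
     (187, 195, 2, 0), (182, 196, 1, 0), (189, 197, 2, 0), (227, 198, 1, 0), (203, 198, 2, 0), (226, 199, 1, 0), (238, 201, 1, 0), (168, 201, 2, 0),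
     (240, 203, 2, 0), (239, 204, 1, 0), (207, 204, 2, 0), (229, 207, 1, 0), (216, 209, 2, 0), (230, 210, 1, 0), (234, 213, 2, 0), (166, 215, 0, 0),
     (167, 215, 2, 0), (178, 216, 1, 0), (171, 216, 2, 0), (214, 217, 1, 0), (179, 217, 2, 0), (169, 218, 1, 0), (215, 219, 2, 0), (190, 220, 1, 0),
     (183, 220, 2, 0), (241, 221, 1, 0), (170, 221, 2, 0), (192, 222, 2, 0), (191, 223, 2, 0), (208, 224, 1, 0), (242, 225, 2, 0), (217, 226, 1, 0),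
     (174, 226, 2, 0), (204, 228, 2, 0), (209, 229, 2, 0), (219, 230, 2, 0), (218, 231, 2, 0), (235, 232, 1, 0), (195, 234, 2, 0), (231, 236, 2, 0),
     (236, 237, 2, 0), (222, 240, 2, 0)]⟩

/-- The class of 1. -/
def rep1 : RepInfo :=
  ⟨1, 0, 0, [12, 75, 54, 16, 140], [(1, 0, [12, 75, 54, 16, 140]), (48, 72, [16, 24, 3, 42, 140])],
    [(0, 0, 0, 0), (25, 0, 0, 1), (36, 0, 0, 3), (50, 0, 0, 27), (34, 0, 0, 81), (72, 0, 2, 0), (14, 1, 0, 1), (70, 1, 2, 0),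
     (59, 2, 0, 27), (4, 9, 0, 0), (20, 9, 0, 1), (40, 9, 0, 3), (51, 9, 0, 27), (29, 9, 0, 81), (60, 9, 1, 0), (76, 9, 2, 0),
     (15, 10, 0, 1), (65, 10, 2, 0), (8, 18, 0, 0), (21, 18, 0, 1), (44, 18, 0, 3), (46, 18, 0, 27), (30, 18, 0, 81), (80, 18, 2, 0),
     (10, 19, 0, 1), (66, 19, 2, 0), (55, 20, 0, 27), (81, 27, 0, 0), (106, 27, 0, 1), (117, 27, 0, 3), (131, 27, 0, 27), (115, 27, 0, 81),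
     (140, 27, 1, 0), (95, 28, 0, 1), (153, 29, 0, 3), (151, 29, 0, 81), (85, 36, 0, 0), (101, 36, 0, 1), (121, 36, 0, 3), (132, 36, 0, 27),
     (110, 36, 0, 81), (96, 37, 0, 1), (157, 38, 0, 3), (141, 38, 0, 27), (146, 38, 0, 81), (89, 45, 0, 0), (102, 45, 0, 1), (125, 45, 0, 3),
     (127, 45, 0, 27), (111, 45, 0, 81), (91, 46, 0, 1), (161, 46, 1, 0), (136, 47, 0, 27), (147, 47, 0, 81), (162, 54, 0, 0), (187, 54, 0, 1),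
     (198, 54, 0, 3), (212, 54, 0, 27), (196, 54, 0, 81), (176, 55, 0, 1), (234, 56, 0, 3), (221, 56, 0, 27), (232, 56, 0, 81), (166, 63, 0, 0),
     (182, 63, 0, 1), (202, 63, 0, 3), (213, 63, 0, 27), (191, 63, 0, 81), (177, 64, 0, 1), (238, 64, 1, 0), (222, 65, 0, 27), (227, 65, 0, 81),
     (170, 72, 0, 0), (183, 72, 0, 1), (206, 72, 0, 3), (208, 72, 0, 27), (192, 72, 0, 81), (217, 72, 1, 0), (172, 73, 0, 1), (242, 74, 0, 3),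
     (228, 74, 0, 81)]⟩

/-- The class of 2. -/
def rep2 : RepInfo :=
  ⟨2, 0, 0, [48, 17, 23, 18, 115], [(1, 0, [12, 75, 54, 16, 140]), (48, 70, [16, 24, 3, 42, 140])],
    [(0, 0, 0, 0), (70, 0, 0, 1), (25, 0, 0, 3), (36, 0, 0, 27), (59, 0, 0, 81), (50, 1, 0, 1), (14, 1, 1, 0), (34, 2, 0, 27),
     (72, 2, 0, 81), (4, 9, 0, 0), (65, 9, 0, 1), (20, 9, 0, 3), (40, 9, 0, 27), (60, 9, 0, 81), (51, 10, 0, 1), (15, 11, 0, 3),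
     (29, 11, 0, 27), (76, 11, 0, 81), (8, 18, 0, 0), (66, 18, 0, 1), (21, 18, 0, 3), (44, 18, 0, 27), (55, 18, 0, 81), (30, 18, 1, 0),
     (46, 19, 0, 1), (10, 20, 0, 3), (80, 20, 0, 81), (81, 27, 0, 0), (151, 27, 0, 1), (106, 27, 0, 3), (117, 27, 0, 27), (140, 27, 0, 81),
     (131, 28, 0, 1), (95, 29, 0, 3), (115, 29, 0, 27), (153, 29, 0, 81), (85, 36, 0, 0), (146, 36, 0, 1), (101, 36, 0, 3), (121, 36, 0, 27),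
     (141, 36, 0, 81), (110, 36, 1, 0), (132, 37, 0, 1), (96, 38, 0, 3), (157, 38, 0, 81), (89, 45, 0, 0), (147, 45, 0, 1), (102, 45, 0, 3),
     (125, 45, 0, 27), (136, 45, 0, 81), (127, 46, 0, 1), (91, 46, 1, 0), (111, 47, 0, 27), (161, 47, 0, 81), (162, 54, 0, 0), (232, 54, 0, 1),
     (187, 54, 0, 3), (198, 54, 0, 27), (221, 54, 0, 81), (196, 54, 1, 0), (176, 54, 2, 0), (212, 55, 0, 1), (234, 55, 2, 0), (166, 63, 0, 0),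
     (227, 63, 0, 1), (182, 63, 0, 3), (202, 63, 0, 27), (222, 63, 0, 81), (177, 63, 2, 0), (213, 64, 0, 1), (238, 64, 2, 0), (191, 65, 0, 27),
     (170, 72, 0, 0), (228, 72, 0, 1), (183, 72, 0, 3), (206, 72, 0, 27), (217, 72, 0, 81), (172, 72, 2, 0), (208, 73, 0, 1), (242, 73, 2, 0),
     (192, 74, 0, 27)]⟩

/-- The class of 3. -/
def rep3 : RepInfo :=
  ⟨3, 0, 0, [16, 3, 9, 27, 98], [(3, 0, [16, 3, 9, 27, 98]), (9, 0, [1, 3, 9, 48, 123]), (27, 0, [1, 24, 3, 27, 90])],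
    [(0, 0, 0, 0), (21, 0, 0, 1), (22, 0, 0, 81), (15, 1, 0, 1), (16, 1, 0, 81), (17, 2, 0, 81), (1, 2, 1, 0), (2, 4, 0, 81),
     (23, 6, 0, 81), (3, 9, 0, 0), (24, 9, 0, 1), (25, 9, 0, 81), (9, 10, 0, 1), (10, 10, 0, 81), (11, 11, 0, 81), (4, 11, 1, 0),
     (5, 13, 0, 81), (26, 15, 0, 81), (6, 18, 0, 0), (18, 18, 0, 1), (19, 18, 0, 81), (12, 18, 3, 0), (13, 19, 0, 81), (14, 20, 0, 81),
     (7, 20, 1, 0), (8, 22, 0, 81), (20, 23, 3, 0), (27, 27, 0, 0), (48, 27, 0, 1), (49, 27, 0, 81), (42, 28, 0, 1), (43, 28, 0, 81),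
     (44, 29, 0, 81), (28, 29, 1, 0), (29, 31, 0, 81), (50, 33, 0, 81), (30, 36, 0, 0), (51, 36, 0, 1), (52, 36, 0, 81), (36, 37, 0, 1),
     (37, 37, 0, 81), (38, 38, 0, 81), (31, 38, 1, 0), (32, 40, 0, 81), (53, 42, 0, 81), (33, 45, 0, 0), (45, 45, 0, 1), (46, 45, 0, 81),
     (39, 45, 3, 0), (40, 46, 0, 81), (41, 47, 0, 81), (34, 47, 1, 0), (35, 49, 0, 81), (47, 50, 3, 0), (54, 54, 0, 0), (75, 54, 0, 1),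
     (76, 54, 0, 81), (69, 54, 2, 0), (70, 55, 0, 81), (71, 56, 0, 81), (55, 56, 1, 0), (56, 58, 0, 81), (77, 59, 2, 0), (57, 63, 0, 0),
     (78, 63, 0, 1), (79, 63, 0, 81), (63, 63, 2, 0), (64, 64, 0, 81), (65, 65, 0, 81), (58, 65, 1, 0), (59, 67, 0, 81), (80, 68, 2, 0),
     (60, 72, 0, 0), (72, 72, 0, 1), (73, 72, 0, 81), (66, 72, 2, 0), (67, 73, 0, 81), (68, 74, 0, 81), (61, 74, 1, 0), (62, 76, 0, 81),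
     (74, 77, 2, 0)]⟩

/-- The class of 4. -/
def rep4 : RepInfo :=
  ⟨4, 48, 54, [18, 75, 54, 16, 143], [],
    []⟩

/-- The class of 5. -/
def rep5 : RepInfo :=
  ⟨5, 48, 54, [27, 17, 23, 18, 100], [],
    []⟩

/-- The class of 6. -/
def rep6 : RepInfo :=
  ⟨6, 0, 0, [22, 3, 9, 27, 97], [(3, 0, [16, 3, 9, 27, 98]), (9, 0, [1, 3, 9, 48, 123]), (27, 0, [1, 24, 3, 27, 90])],
    [(0, 0, 0, 0), (15, 0, 0, 1), (23, 0, 0, 81), (21, 1, 0, 1), (2, 1, 0, 81), (16, 2, 0, 81), (17, 2, 1, 0), (22, 4, 0, 81),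
     (1, 6, 0, 81), (3, 9, 0, 0), (9, 9, 0, 1), (26, 9, 0, 81), (24, 9, 3, 0), (5, 10, 0, 81), (10, 11, 0, 81), (11, 11, 1, 0),
     (25, 13, 0, 81), (4, 14, 3, 0), (6, 18, 0, 0), (12, 18, 0, 1), (20, 18, 0, 81), (18, 19, 0, 1), (8, 19, 0, 81), (13, 20, 0, 81),
     (14, 20, 1, 0), (19, 22, 0, 81), (7, 24, 0, 81), (27, 27, 0, 0), (42, 27, 0, 1), (50, 27, 0, 81), (48, 27, 2, 0), (29, 28, 0, 81),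
     (43, 29, 0, 81), (44, 29, 1, 0), (49, 31, 0, 81), (28, 32, 2, 0), (30, 36, 0, 0), (36, 36, 0, 1), (53, 36, 0, 81), (51, 36, 2, 0),
     (32, 37, 0, 81), (37, 38, 0, 81), (38, 38, 1, 0), (52, 40, 0, 81), (31, 41, 2, 0), (33, 45, 0, 0), (39, 45, 0, 1), (47, 45, 0, 81),
     (45, 45, 2, 0), (35, 46, 0, 81), (40, 47, 0, 81), (41, 47, 1, 0), (46, 49, 0, 81), (34, 50, 2, 0), (54, 54, 0, 0), (69, 54, 0, 1),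
     (77, 54, 0, 81), (75, 55, 0, 1), (56, 55, 0, 81), (70, 56, 0, 81), (71, 56, 1, 0), (76, 58, 0, 81), (55, 60, 0, 81), (57, 63, 0, 0),
     (63, 63, 0, 1), (80, 63, 0, 81), (78, 63, 3, 0), (59, 64, 0, 81), (64, 65, 0, 81), (65, 65, 1, 0), (79, 67, 0, 81), (58, 68, 3, 0),
     (60, 72, 0, 0), (66, 72, 0, 1), (74, 72, 0, 81), (72, 73, 0, 1), (62, 73, 0, 81), (67, 74, 0, 81), (68, 74, 1, 0), (73, 76, 0, 81),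
     (61, 78, 0, 81)]⟩

/-- The class of 7. -/
def rep7 : RepInfo :=
  ⟨7, 69, 42, [6, 75, 54, 16, 158], [],
    []⟩

/-- The class of 8. -/
def rep8 : RepInfo :=
  ⟨8, 69, 42, [42, 17, 23, 18, 142], [],
    []⟩

/-- The class of 12. -/
def rep12 : RepInfo :=
  ⟨12, 0, 0, [16, 3, 9, 48, 131], [(3, 0, [16, 3, 9, 27, 98]), (9, 0, [1, 3, 9, 48, 123]), (27, 0, [1, 24, 3, 27, 90])],
    [(0, 0, 0, 0), (21, 0, 0, 1), (15, 0, 0, 27), (70, 0, 0, 81), (55, 1, 0, 81), (76, 2, 0, 81), (50, 3, 0, 81), (44, 4, 0, 81),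
     (29, 5, 0, 81), (1, 9, 0, 0), (22, 9, 0, 1), (16, 9, 0, 27), (71, 9, 0, 81), (56, 10, 0, 81), (77, 11, 0, 81), (48, 12, 0, 81),
     (42, 13, 0, 81), (27, 14, 0, 81), (2, 18, 0, 0), (23, 18, 0, 1), (17, 18, 0, 27), (69, 18, 0, 81), (54, 19, 0, 81), (75, 20, 0, 81),
     (49, 21, 0, 81), (43, 22, 0, 81), (28, 23, 0, 81), (3, 27, 0, 0), (24, 27, 0, 1), (9, 27, 0, 27), (64, 27, 0, 81), (58, 28, 0, 81),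
     (79, 29, 0, 81), (53, 30, 0, 81), (38, 31, 0, 81), (32, 32, 0, 81), (4, 36, 0, 0), (25, 36, 0, 1), (10, 36, 0, 27), (65, 36, 0, 81),
     (59, 37, 0, 81), (80, 38, 0, 81), (51, 39, 0, 81), (36, 40, 0, 81), (30, 41, 0, 81), (5, 45, 0, 0), (26, 45, 0, 1), (11, 45, 0, 27),
     (63, 45, 0, 81), (57, 46, 0, 81), (78, 47, 0, 81), (52, 48, 0, 81), (37, 49, 0, 81), (31, 50, 0, 81), (6, 54, 0, 0), (18, 54, 0, 1),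
     (12, 54, 0, 27), (67, 54, 0, 81), (61, 55, 0, 81), (73, 56, 0, 81), (47, 57, 0, 81), (41, 58, 0, 81), (35, 59, 0, 81), (7, 63, 0, 0),
     (19, 63, 0, 1), (13, 63, 0, 27), (68, 63, 0, 81), (62, 64, 0, 81), (74, 65, 0, 81), (45, 66, 0, 81), (39, 67, 0, 81), (33, 68, 0, 81),
     (8, 72, 0, 0), (20, 72, 0, 1), (14, 72, 0, 27), (66, 72, 0, 81), (60, 73, 0, 81), (72, 74, 0, 81), (46, 75, 0, 81), (40, 76, 0, 81),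
     (34, 77, 0, 81)]⟩

/-- The class of 15. -/
def rep15 : RepInfo :=
  ⟨15, 0, 0, [22, 3, 9, 48, 130], [(3, 0, [16, 3, 9, 27, 98]), (9, 0, [1, 3, 9, 48, 123]), (27, 0, [1, 24, 3, 27, 90])],
    [(0, 0, 0, 0), (15, 0, 0, 1), (71, 0, 0, 81), (21, 1, 0, 1), (77, 1, 0, 81), (49, 2, 0, 81), (56, 2, 1, 0), (28, 4, 0, 81),
     (43, 5, 2, 0), (1, 9, 0, 0), (16, 9, 0, 1), (69, 9, 0, 81), (22, 10, 0, 1), (75, 10, 0, 81), (50, 11, 0, 81), (54, 12, 0, 81),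
     (29, 13, 0, 81), (44, 14, 1, 0), (2, 18, 0, 0), (17, 18, 0, 1), (70, 18, 0, 81), (23, 18, 1, 0), (76, 19, 0, 81), (48, 20, 0, 81),
     (55, 21, 0, 81), (27, 22, 0, 81), (42, 23, 2, 0), (3, 27, 0, 0), (9, 27, 0, 1), (65, 27, 0, 81), (24, 27, 3, 0), (80, 28, 0, 81),
     (52, 29, 0, 81), (59, 29, 1, 0), (31, 31, 0, 81), (37, 32, 2, 0), (4, 36, 0, 0), (10, 36, 0, 1), (63, 36, 0, 81), (25, 36, 3, 0),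
     (78, 37, 0, 81), (53, 38, 0, 81), (57, 38, 3, 0), (32, 40, 0, 81), (38, 41, 1, 0), (5, 45, 0, 0), (11, 45, 0, 1), (64, 45, 0, 81),
     (26, 45, 1, 0), (79, 46, 0, 81), (51, 47, 0, 81), (58, 47, 3, 0), (30, 49, 0, 81), (36, 50, 2, 0), (6, 54, 0, 0), (12, 54, 0, 1),
     (68, 54, 0, 81), (18, 55, 0, 1), (74, 55, 0, 81), (46, 56, 0, 81), (62, 56, 1, 0), (34, 58, 0, 81), (40, 59, 2, 0), (7, 63, 0, 0),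
     (13, 63, 0, 1), (66, 63, 0, 81), (19, 64, 0, 1), (72, 64, 0, 81), (47, 65, 0, 81), (60, 66, 0, 81), (35, 67, 0, 81), (41, 68, 1, 0),
     (8, 72, 0, 0), (14, 72, 0, 1), (67, 72, 0, 81), (20, 72, 1, 0), (73, 73, 0, 81), (45, 74, 0, 81), (61, 75, 0, 81), (33, 76, 0, 81),
     (39, 77, 2, 0)]⟩

/-- The class of 21. -/
def rep21 : RepInfo :=
  ⟨21, 0, 0, [16, 3, 9, 42, 158], [(3, 0, [16, 3, 9, 27, 98]), (9, 0, [1, 3, 9, 48, 123]), (27, 0, [1, 24, 3, 27, 90])],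
    [(0, 0, 0, 0), (21, 0, 0, 1), (43, 0, 0, 81), (15, 1, 0, 1), (28, 1, 0, 81), (77, 2, 0, 81), (49, 2, 1, 0), (71, 4, 0, 81),
     (56, 5, 2, 0), (1, 9, 0, 0), (22, 9, 0, 1), (44, 9, 0, 81), (16, 9, 1, 0), (29, 10, 0, 81), (75, 11, 0, 81), (50, 12, 0, 81),
     (69, 13, 0, 81), (54, 14, 2, 0), (2, 18, 0, 0), (23, 18, 0, 1), (42, 18, 0, 81), (17, 19, 0, 1), (27, 19, 0, 81), (76, 20, 0, 81),
     (48, 21, 0, 81), (70, 22, 0, 81), (55, 23, 1, 0), (3, 27, 0, 0), (24, 27, 0, 1), (37, 27, 0, 81), (9, 28, 0, 1), (31, 28, 0, 81),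
     (80, 29, 0, 81), (52, 29, 1, 0), (65, 31, 0, 81), (59, 32, 2, 0), (4, 36, 0, 0), (25, 36, 0, 1), (38, 36, 0, 81), (10, 36, 1, 0),
     (32, 37, 0, 81), (78, 38, 0, 81), (53, 39, 0, 81), (63, 40, 0, 81), (57, 41, 2, 0), (5, 45, 0, 0), (26, 45, 0, 1), (36, 45, 0, 81),
     (11, 46, 0, 1), (30, 46, 0, 81), (79, 47, 0, 81), (51, 48, 0, 81), (64, 49, 0, 81), (58, 50, 1, 0), (6, 54, 0, 0), (18, 54, 0, 1),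
     (40, 54, 0, 81), (12, 54, 3, 0), (34, 55, 0, 81), (74, 56, 0, 81), (46, 56, 1, 0), (68, 58, 0, 81), (62, 59, 2, 0), (7, 63, 0, 0),
     (19, 63, 0, 1), (41, 63, 0, 81), (13, 63, 1, 0), (35, 64, 0, 81), (72, 65, 0, 81), (47, 65, 3, 0), (66, 67, 0, 81), (60, 68, 2, 0),
     (8, 72, 0, 0), (20, 72, 0, 1), (39, 72, 0, 81), (14, 72, 3, 0), (33, 73, 0, 81), (73, 74, 0, 81), (45, 74, 3, 0), (67, 76, 0, 81),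
     (61, 77, 1, 0)]⟩

/-- The class of 24. -/
def rep24 : RepInfo :=
  ⟨24, 0, 0, [22, 3, 9, 42, 157], [(3, 0, [16, 3, 9, 27, 98]), (9, 0, [1, 3, 9, 48, 123]), (27, 0, [1, 24, 3, 27, 90])],
    [(0, 0, 0, 0), (15, 0, 0, 1), (21, 0, 0, 27), (44, 0, 0, 81), (50, 1, 0, 81), (29, 2, 0, 81), (76, 3, 0, 81), (55, 4, 0, 81),
     (70, 5, 0, 81), (1, 9, 0, 0), (16, 9, 0, 1), (22, 9, 0, 27), (42, 9, 0, 81), (48, 10, 0, 81), (27, 11, 0, 81), (77, 12, 0, 81),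
     (56, 13, 0, 81), (71, 14, 0, 81), (2, 18, 0, 0), (17, 18, 0, 1), (23, 18, 0, 27), (43, 18, 0, 81), (49, 19, 0, 81), (28, 20, 0, 81),
     (75, 21, 0, 81), (54, 22, 0, 81), (69, 23, 0, 81), (3, 27, 0, 0), (9, 27, 0, 1), (24, 27, 0, 27), (38, 27, 0, 81), (53, 28, 0, 81),
     (32, 29, 0, 81), (79, 30, 0, 81), (58, 31, 0, 81), (64, 32, 0, 81), (4, 36, 0, 0), (10, 36, 0, 1), (25, 36, 0, 27), (36, 36, 0, 81),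
     (51, 37, 0, 81), (30, 38, 0, 81), (80, 39, 0, 81), (59, 40, 0, 81), (65, 41, 0, 81), (5, 45, 0, 0), (11, 45, 0, 1), (26, 45, 0, 27),
     (37, 45, 0, 81), (52, 46, 0, 81), (31, 47, 0, 81), (78, 48, 0, 81), (57, 49, 0, 81), (63, 50, 0, 81), (6, 54, 0, 0), (12, 54, 0, 1),
     (18, 54, 0, 27), (41, 54, 0, 81), (47, 55, 0, 81), (35, 56, 0, 81), (73, 57, 0, 81), (61, 58, 0, 81), (67, 59, 0, 81), (7, 63, 0, 0),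
     (13, 63, 0, 1), (19, 63, 0, 27), (39, 63, 0, 81), (45, 64, 0, 81), (33, 65, 0, 81), (74, 66, 0, 81), (62, 67, 0, 81), (68, 68, 0, 81),
     (8, 72, 0, 0), (14, 72, 0, 1), (20, 72, 0, 27), (40, 72, 0, 81), (46, 73, 0, 81), (34, 74, 0, 81), (72, 75, 0, 81), (60, 76, 0, 81),
     (66, 77, 0, 81)]⟩

/-- The class of 39. -/
def rep39 : RepInfo :=
  ⟨39, 0, 0, [16, 24, 3, 48, 113], [(3, 0, [16, 3, 9, 27, 98]), (9, 0, [1, 3, 9, 48, 123]), (27, 0, [1, 24, 3, 27, 90])],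
    [(0, 0, 0, 0), (21, 0, 0, 1), (15, 0, 0, 3), (61, 0, 0, 81), (73, 1, 0, 81), (67, 2, 0, 81), (32, 3, 0, 81), (53, 4, 0, 81),
     (38, 5, 0, 81), (1, 9, 0, 0), (22, 9, 0, 1), (16, 9, 0, 3), (62, 9, 0, 81), (74, 10, 0, 81), (68, 11, 0, 81), (30, 12, 0, 81),
     (51, 13, 0, 81), (36, 14, 0, 81), (2, 18, 0, 0), (23, 18, 0, 1), (17, 18, 0, 3), (60, 18, 0, 81), (72, 19, 0, 81), (66, 20, 0, 81),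
     (31, 21, 0, 81), (52, 22, 0, 81), (37, 23, 0, 81), (3, 27, 0, 0), (24, 27, 0, 1), (9, 27, 0, 3), (55, 27, 0, 81), (76, 28, 0, 81),
     (70, 29, 0, 81), (35, 30, 0, 81), (47, 31, 0, 81), (41, 32, 0, 81), (4, 36, 0, 0), (25, 36, 0, 1), (10, 36, 0, 3), (56, 36, 0, 81),
     (77, 37, 0, 81), (71, 38, 0, 81), (33, 39, 0, 81), (45, 40, 0, 81), (39, 41, 0, 81), (5, 45, 0, 0), (26, 45, 0, 1), (11, 45, 0, 3),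
     (54, 45, 0, 81), (75, 46, 0, 81), (69, 47, 0, 81), (34, 48, 0, 81), (46, 49, 0, 81), (40, 50, 0, 81), (6, 54, 0, 0), (18, 54, 0, 1),
     (12, 54, 0, 3), (58, 54, 0, 81), (79, 55, 0, 81), (64, 56, 0, 81), (29, 57, 0, 81), (50, 58, 0, 81), (44, 59, 0, 81), (7, 63, 0, 0),
     (19, 63, 0, 1), (13, 63, 0, 3), (59, 63, 0, 81), (80, 64, 0, 81), (65, 65, 0, 81), (27, 66, 0, 81), (48, 67, 0, 81), (42, 68, 0, 81),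
     (8, 72, 0, 0), (20, 72, 0, 1), (14, 72, 0, 3), (57, 72, 0, 81), (78, 73, 0, 81), (63, 74, 0, 81), (28, 75, 0, 81), (49, 76, 0, 81),
     (43, 77, 0, 81), (81, 81, 0, 0), (102, 81, 0, 1), (96, 81, 0, 3), (142, 81, 0, 81), (98, 81, 1, 0), (123, 81, 2, 0), (90, 81, 3, 0),
     (154, 82, 0, 81), (83, 82, 1, 0), (108, 82, 2, 0), (84, 82, 3, 0), (148, 83, 0, 81), (104, 83, 1, 0), (129, 83, 2, 0), (105, 83, 3, 0),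
     (113, 84, 0, 81), (153, 84, 1, 0), (100, 84, 2, 0), (157, 84, 3, 0), (147, 85, 0, 81), (97, 85, 1, 0), (131, 85, 2, 0), (107, 85, 3, 0),
     (94, 86, 0, 81), (150, 86, 2, 0), (132, 86, 3, 0), (151, 87, 0, 81), (93, 87, 3, 0), (134, 88, 0, 81), (141, 89, 0, 81), (82, 89, 1, 0),
     (125, 89, 2, 0), (92, 89, 3, 0), (88, 90, 0, 81), (135, 90, 2, 0), (117, 90, 3, 0), (136, 91, 0, 81), (87, 91, 3, 0), (119, 92, 0, 81),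
     (103, 93, 1, 0), (110, 93, 2, 0), (86, 93, 3, 0), (156, 94, 2, 0), (111, 94, 3, 0), (99, 95, 3, 0), (112, 96, 1, 0), (140, 96, 2, 0),
     (116, 96, 3, 0), (133, 97, 0, 81), (143, 97, 1, 0), (161, 98, 0, 81), (115, 98, 2, 0), (128, 99, 0, 81), (139, 99, 3, 0), (118, 100, 0, 81),
     (155, 100, 1, 0), (149, 101, 0, 81), (130, 101, 2, 0), (106, 101, 3, 0), (158, 102, 2, 0), (101, 103, 3, 0), (146, 104, 0, 81), (127, 104, 2, 0),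
     (121, 105, 0, 81), (159, 105, 3, 0), (126, 106, 3, 0), (122, 107, 0, 81), (160, 107, 3, 0), (145, 108, 0, 81), (124, 111, 2, 0), (91, 111, 3, 0),
     (152, 112, 2, 0), (95, 113, 3, 0), (144, 115, 3, 0), (120, 116, 3, 0), (109, 120, 2, 0), (85, 120, 3, 0), (137, 121, 2, 0), (89, 122, 3, 0),
     (138, 123, 3, 0), (114, 124, 3, 0), (162, 162, 0, 0), (183, 162, 0, 1), (177, 162, 0, 3), (223, 162, 0, 81), (184, 162, 1, 0), (237, 162, 2, 0),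
     (180, 162, 3, 0), (235, 163, 0, 81), (178, 163, 1, 0), (231, 163, 2, 0), (174, 163, 3, 0), (229, 164, 0, 81), (163, 164, 1, 0), (216, 164, 2, 0),
     (168, 164, 3, 0), (194, 165, 0, 81), (224, 165, 1, 0), (196, 165, 2, 0), (220, 165, 3, 0), (236, 166, 0, 81), (185, 166, 1, 0), (232, 166, 2, 0),
     (175, 166, 3, 0), (208, 167, 0, 81), (210, 167, 2, 0), (228, 167, 3, 0), (241, 168, 0, 81), (186, 168, 3, 0), (215, 169, 0, 81), (230, 170, 0, 81),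
     (179, 170, 1, 0), (217, 170, 2, 0), (169, 170, 3, 0), (202, 171, 0, 81), (204, 171, 2, 0), (222, 171, 3, 0), (226, 172, 0, 81), (171, 172, 3, 0),
     (200, 173, 0, 81), (164, 174, 1, 0), (238, 174, 2, 0), (181, 174, 3, 0), (189, 175, 2, 0), (234, 175, 3, 0), (165, 176, 3, 0), (198, 177, 1, 0),
     (173, 177, 2, 0), (206, 177, 3, 0), (192, 178, 0, 81), (197, 178, 2, 0), (221, 178, 3, 0), (167, 179, 0, 81), (193, 179, 3, 0), (191, 180, 0, 81),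
     (213, 181, 0, 81), (209, 181, 2, 0), (242, 181, 3, 0), (233, 182, 2, 0), (176, 182, 3, 0), (203, 183, 0, 81), (205, 183, 2, 0), (227, 184, 0, 81),
     (172, 184, 3, 0), (188, 185, 0, 81), (214, 185, 3, 0), (201, 186, 3, 0), (199, 187, 0, 81), (225, 187, 3, 0), (212, 188, 0, 81), (218, 192, 2, 0),
     (170, 192, 3, 0), (190, 193, 2, 0), (166, 194, 3, 0), (195, 196, 3, 0), (219, 197, 3, 0), (239, 201, 2, 0), (182, 201, 3, 0), (211, 202, 2, 0),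
     (187, 203, 3, 0), (207, 204, 3, 0), (240, 205, 3, 0)]⟩

/-- The class of 42. -/
def rep42 : RepInfo :=
  ⟨42, 0, 0, [22, 24, 3, 48, 112], [(3, 0, [16, 3, 9, 27, 98]), (9, 0, [1, 3, 9, 48, 123]), (27, 0, [1, 24, 3, 27, 90])],
    [(0, 0, 0, 0), (15, 0, 0, 1), (62, 0, 0, 81), (21, 1, 0, 1), (68, 1, 0, 81), (31, 2, 0, 81), (74, 2, 1, 0), (37, 4, 0, 81),
     (52, 5, 2, 0), (1, 9, 0, 0), (16, 9, 0, 1), (60, 9, 0, 81), (22, 10, 0, 1), (66, 10, 0, 81), (32, 11, 0, 81), (72, 12, 0, 81),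
     (38, 13, 0, 81), (53, 14, 1, 0), (2, 18, 0, 0), (17, 18, 0, 1), (61, 18, 0, 81), (23, 18, 1, 0), (67, 19, 0, 81), (30, 20, 0, 81),
     (73, 21, 0, 81), (36, 22, 0, 81), (51, 23, 2, 0), (3, 27, 0, 0), (9, 27, 0, 1), (56, 27, 0, 81), (24, 27, 3, 0), (71, 28, 0, 81),
     (34, 29, 0, 81), (77, 29, 1, 0), (40, 31, 0, 81), (46, 32, 2, 0), (4, 36, 0, 0), (10, 36, 0, 1), (54, 36, 0, 81), (25, 36, 3, 0),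
     (69, 37, 0, 81), (35, 38, 0, 81), (75, 39, 0, 81), (41, 40, 0, 81), (47, 41, 1, 0), (5, 45, 0, 0), (11, 45, 0, 1), (55, 45, 0, 81),
     (26, 45, 1, 0), (70, 46, 0, 81), (33, 47, 0, 81), (76, 48, 0, 81), (39, 49, 0, 81), (45, 50, 2, 0), (6, 54, 0, 0), (12, 54, 0, 1),
     (59, 54, 0, 81), (18, 55, 0, 1), (65, 55, 0, 81), (28, 56, 0, 81), (80, 56, 1, 0), (43, 58, 0, 81), (49, 59, 2, 0), (7, 63, 0, 0),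
     (13, 63, 0, 1), (57, 63, 0, 81), (19, 64, 0, 1), (63, 64, 0, 81), (29, 65, 0, 81), (78, 65, 3, 0), (44, 67, 0, 81), (50, 68, 1, 0),
     (8, 72, 0, 0), (14, 72, 0, 1), (58, 72, 0, 81), (20, 72, 1, 0), (64, 73, 0, 81), (27, 74, 0, 81), (79, 74, 3, 0), (42, 76, 0, 81),
     (48, 77, 2, 0), (81, 81, 0, 0), (96, 81, 0, 1), (143, 81, 0, 81), (98, 81, 1, 0), (123, 81, 2, 0), (90, 81, 3, 0), (102, 82, 0, 1),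
     (149, 82, 0, 81), (104, 82, 1, 0), (129, 82, 2, 0), (105, 82, 3, 0), (112, 83, 0, 81), (142, 83, 1, 0), (101, 83, 2, 0), (158, 83, 3, 0),
     (148, 84, 0, 81), (97, 84, 1, 0), (131, 84, 2, 0), (107, 84, 3, 0), (95, 85, 0, 81), (150, 85, 2, 0), (132, 85, 3, 0), (152, 86, 0, 81),
     (93, 86, 3, 0), (155, 87, 0, 81), (83, 87, 1, 0), (108, 87, 2, 0), (84, 87, 3, 0), (118, 88, 0, 81), (89, 88, 2, 0), (137, 88, 3, 0),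
     (154, 89, 0, 81), (103, 89, 1, 0), (110, 89, 2, 0), (86, 89, 3, 0), (156, 90, 2, 0), (111, 90, 3, 0), (99, 91, 3, 0), (139, 92, 2, 0),
     (115, 92, 3, 0), (153, 93, 1, 0), (100, 93, 2, 0), (157, 93, 3, 0), (160, 94, 0, 81), (116, 94, 2, 0), (127, 95, 0, 81), (140, 95, 3, 0),
     (117, 96, 0, 81), (141, 96, 1, 0), (88, 96, 2, 0), (136, 96, 3, 0), (147, 97, 0, 81), (130, 97, 2, 0), (106, 97, 3, 0), (113, 98, 3, 0),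
     (145, 100, 0, 81), (94, 100, 1, 0), (128, 100, 2, 0), (122, 101, 0, 81), (159, 101, 3, 0), (126, 102, 3, 0), (121, 103, 0, 81), (151, 103, 1, 0),
     (161, 103, 3, 0), (146, 104, 0, 81), (133, 105, 0, 81), (82, 106, 1, 0), (125, 106, 2, 0), (92, 106, 3, 0), (135, 107, 2, 0), (87, 108, 3, 0),
     (109, 113, 2, 0), (85, 113, 3, 0), (119, 114, 3, 0), (138, 116, 3, 0), (114, 117, 3, 0), (134, 121, 0, 81), (144, 124, 1, 0), (91, 124, 2, 0),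
     (120, 126, 1, 0), (124, 126, 3, 0), (162, 162, 0, 0), (177, 162, 0, 1), (224, 162, 0, 81), (184, 162, 1, 0), (237, 162, 2, 0), (180, 162, 3, 0),
     (183, 163, 0, 1), (230, 163, 0, 81), (163, 163, 1, 0), (216, 163, 2, 0), (168, 163, 3, 0), (193, 164, 0, 81), (228, 164, 1, 0), (197, 164, 2, 0),
     (221, 164, 3, 0), (234, 165, 0, 81), (185, 165, 1, 0), (232, 165, 2, 0), (175, 165, 3, 0), (209, 166, 0, 81), (210, 166, 2, 0), (242, 167, 0, 81),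
     (186, 167, 3, 0), (236, 168, 0, 81), (178, 168, 1, 0), (231, 168, 2, 0), (174, 168, 3, 0), (199, 169, 0, 81), (203, 169, 2, 0), (227, 169, 3, 0),
     (222, 170, 0, 81), (164, 170, 1, 0), (238, 170, 2, 0), (181, 170, 3, 0), (189, 171, 2, 0), (165, 172, 3, 0), (194, 173, 1, 0), (172, 173, 2, 0),
     (205, 173, 3, 0), (200, 174, 0, 81), (223, 174, 1, 0), (201, 174, 2, 0), (225, 174, 3, 0), (166, 175, 0, 81), (176, 175, 2, 0), (190, 176, 0, 81),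
     (233, 176, 3, 0), (215, 177, 0, 81), (229, 177, 1, 0), (207, 177, 2, 0), (240, 177, 3, 0), (235, 178, 0, 81), (187, 181, 0, 81), (195, 181, 1, 0),
     (170, 181, 2, 0), (182, 182, 0, 81), (211, 183, 0, 81), (219, 183, 1, 0), (218, 183, 3, 0), (239, 184, 0, 81), (214, 185, 0, 81), (179, 186, 1, 0),
     (217, 186, 2, 0), (169, 186, 3, 0), (204, 187, 2, 0), (171, 188, 3, 0), (198, 198, 1, 0), (173, 198, 2, 0), (206, 198, 3, 0), (220, 199, 2, 0),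
     (196, 200, 3, 0), (213, 201, 1, 0), (188, 201, 2, 0), (212, 201, 3, 0), (192, 202, 0, 81), (167, 205, 1, 0), (241, 205, 2, 0), (226, 206, 0, 81),
     (191, 207, 1, 0), (208, 207, 3, 0), (202, 208, 0, 81)]⟩

/-- The class of 48. -/
def rep48 : RepInfo :=
  ⟨48, 0, 0, [16, 24, 3, 42, 140], [(1, 70, [12, 75, 54, 16, 140]), (3, 0, [16, 3, 9, 27, 98])],
    [(0, 0, 0, 0), (21, 0, 0, 1), (15, 0, 0, 3), (34, 0, 0, 81), (70, 0, 1, 0), (46, 1, 0, 81), (55, 1, 1, 0), (40, 2, 0, 81),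
     (76, 2, 1, 0), (59, 3, 0, 81), (14, 3, 1, 0), (72, 4, 1, 0), (80, 5, 0, 81), (8, 5, 1, 0), (66, 6, 1, 0), (65, 7, 0, 81),
     (20, 7, 1, 0), (60, 8, 1, 0), (36, 9, 1, 0), (25, 10, 1, 0), (30, 12, 1, 0), (10, 13, 1, 0), (51, 15, 1, 0), (4, 16, 1, 0),
     (50, 18, 1, 0), (44, 20, 1, 0), (29, 22, 1, 0), (1, 27, 0, 0), (22, 27, 0, 1), (16, 27, 0, 3), (35, 27, 0, 81), (73, 27, 1, 0),
     (47, 28, 0, 81), (67, 28, 1, 0), (41, 29, 0, 81), (61, 29, 1, 0), (57, 30, 0, 81), (26, 30, 1, 0), (12, 31, 1, 0), (78, 32, 0, 81),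
     (11, 32, 1, 0), (6, 33, 1, 0), (63, 34, 0, 81), (5, 34, 1, 0), (18, 35, 1, 0), (48, 36, 1, 0), (37, 37, 1, 0), (42, 39, 1, 0),
     (31, 40, 1, 0), (27, 42, 1, 0), (52, 43, 1, 0), (71, 45, 1, 0), (56, 47, 1, 0), (77, 49, 1, 0), (2, 54, 0, 0), (23, 54, 0, 1),
     (17, 54, 0, 3), (33, 54, 0, 81), (58, 54, 1, 0), (45, 55, 0, 81), (79, 55, 1, 0), (39, 56, 0, 81), (64, 56, 1, 0), (3, 63, 0, 0),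
     (24, 63, 0, 1), (9, 63, 0, 3), (28, 63, 0, 81), (49, 64, 0, 81), (43, 65, 0, 81), (62, 66, 0, 81), (74, 67, 0, 81), (68, 68, 0, 81),
     (7, 72, 0, 0), (19, 72, 0, 1), (13, 72, 0, 3), (32, 72, 0, 81), (53, 73, 0, 81), (38, 74, 0, 81), (54, 75, 0, 81), (75, 76, 0, 81),
     (69, 77, 0, 81), (81, 81, 0, 0), (102, 81, 0, 1), (96, 81, 0, 3), (115, 81, 0, 81), (117, 81, 1, 0), (98, 81, 2, 0), (127, 82, 0, 81),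
     (111, 82, 1, 0), (83, 82, 2, 0), (121, 83, 0, 81), (132, 83, 1, 0), (104, 83, 2, 0), (140, 84, 0, 81), (151, 84, 1, 0), (126, 84, 2, 0),
     (106, 85, 1, 0), (134, 85, 2, 0), (120, 86, 0, 81), (97, 86, 2, 0), (161, 87, 0, 81), (136, 87, 1, 0), (91, 88, 1, 0), (119, 88, 2, 0),
     (114, 89, 0, 81), (82, 89, 2, 0), (146, 90, 0, 81), (157, 90, 1, 0), (85, 91, 1, 0), (113, 91, 2, 0), (103, 92, 2, 0), (95, 93, 1, 0),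
     (139, 93, 2, 0), (131, 94, 1, 0), (135, 94, 2, 0), (160, 95, 0, 81), (116, 95, 2, 0), (90, 96, 2, 0), (156, 97, 0, 81), (100, 97, 1, 0),
     (133, 97, 2, 0), (145, 98, 0, 81), (128, 98, 2, 0), (122, 99, 0, 81), (108, 99, 1, 0), (89, 100, 1, 0), (125, 101, 1, 0), (84, 102, 2, 0),
     (150, 103, 0, 81), (94, 103, 1, 0), (118, 103, 2, 0), (129, 105, 1, 0), (101, 106, 1, 0), (110, 107, 1, 0), (105, 108, 2, 0), (88, 109, 1, 0),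
     (112, 109, 2, 0), (123, 110, 1, 0), (153, 111, 1, 0), (159, 112, 2, 0), (130, 113, 2, 0), (152, 114, 2, 0), (144, 115, 2, 0), (138, 116, 0, 81),
     (154, 116, 1, 0), (124, 117, 0, 81), (107, 117, 2, 0), (137, 118, 2, 0), (93, 119, 2, 0), (158, 120, 0, 81), (148, 122, 1, 0), (142, 123, 1, 0),
     (147, 125, 1, 0), (109, 127, 0, 81), (92, 127, 2, 0), (87, 129, 2, 0), (141, 132, 1, 0), (86, 134, 2, 0), (99, 135, 2, 0), (143, 138, 2, 0),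
     (155, 140, 0, 81), (149, 145, 0, 81), (162, 162, 0, 0), (183, 162, 0, 1), (177, 162, 0, 3), (196, 162, 0, 81), (176, 162, 1, 0), (184, 162, 2, 0),
     (208, 163, 0, 81), (170, 163, 1, 0), (178, 163, 2, 0), (202, 164, 0, 81), (182, 164, 1, 0), (163, 164, 2, 0), (221, 165, 0, 81), (198, 165, 1, 0),
     (197, 165, 2, 0), (212, 166, 1, 0), (180, 166, 2, 0), (209, 167, 0, 81), (173, 167, 1, 0), (185, 167, 2, 0), (242, 168, 0, 81), (192, 168, 1, 0),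
     (206, 169, 1, 0), (174, 169, 2, 0), (203, 170, 0, 81), (167, 170, 1, 0), (179, 170, 2, 0), (227, 171, 0, 81), (213, 171, 1, 0), (191, 172, 1, 0),
     (168, 172, 2, 0), (188, 173, 1, 0), (164, 173, 2, 0), (232, 174, 1, 0), (225, 174, 2, 0), (234, 175, 1, 0), (193, 175, 2, 0), (219, 176, 0, 81),
     (210, 176, 1, 0), (201, 176, 2, 0), (189, 177, 2, 0), (214, 178, 0, 81), (175, 178, 2, 0), (240, 179, 0, 81), (204, 179, 1, 0), (195, 179, 2, 0),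
     (218, 180, 1, 0), (186, 180, 2, 0), (207, 181, 0, 81), (217, 182, 1, 0), (228, 183, 1, 0), (199, 185, 0, 81), (169, 185, 2, 0), (239, 187, 1, 0),
     (171, 187, 2, 0), (238, 189, 1, 0), (222, 190, 1, 0), (181, 192, 2, 0), (233, 193, 1, 0), (165, 193, 2, 0), (187, 195, 1, 0), (223, 196, 1, 0),
     (220, 196, 2, 0), (229, 197, 2, 0), (194, 198, 2, 0), (235, 199, 1, 0), (241, 199, 2, 0), (205, 200, 2, 0), (226, 201, 0, 81), (211, 202, 2, 0),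
     (215, 203, 2, 0), (200, 204, 0, 81), (190, 206, 2, 0), (231, 208, 2, 0), (236, 209, 1, 0), (172, 209, 2, 0), (216, 215, 2, 0), (230, 216, 1, 0),
     (166, 216, 2, 0), (237, 220, 2, 0), (224, 221, 1, 0)]⟩

/-- The class of 69. -/
def rep69 : RepInfo :=
  ⟨69, 0, 0, [22, 9, 24, 48, 115], [(1, 50, [12, 75, 54, 16, 140]), (3, 0, [16, 3, 9, 27, 98])],
    [(0, 0, 0, 0), (15, 0, 0, 1), (21, 0, 0, 3), (59, 0, 0, 81), (50, 0, 1, 0), (65, 1, 0, 81), (29, 1, 1, 0), (80, 2, 0, 81),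
     (44, 2, 1, 0), (34, 3, 0, 81), (25, 3, 1, 0), (36, 4, 1, 0), (40, 5, 0, 81), (4, 5, 1, 0), (51, 6, 1, 0), (46, 7, 0, 81),
     (10, 7, 1, 0), (30, 8, 1, 0), (72, 9, 1, 0), (14, 10, 1, 0), (60, 12, 1, 0), (20, 13, 1, 0), (66, 15, 1, 0), (8, 16, 1, 0),
     (70, 18, 1, 0), (76, 20, 1, 0), (55, 22, 1, 0), (1, 27, 0, 0), (16, 27, 0, 1), (22, 27, 0, 3), (57, 27, 0, 81), (35, 27, 1, 0),
     (63, 28, 0, 81), (41, 28, 1, 0), (78, 29, 0, 81), (47, 29, 1, 0), (2, 36, 0, 0), (17, 36, 0, 1), (23, 36, 0, 3), (58, 36, 0, 81),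
     (38, 36, 1, 0), (64, 37, 0, 81), (53, 37, 1, 0), (79, 38, 0, 81), (32, 38, 1, 0), (33, 39, 0, 81), (13, 39, 1, 0), (24, 40, 1, 0),
     (39, 41, 0, 81), (19, 41, 1, 0), (3, 42, 1, 0), (45, 43, 0, 81), (7, 43, 1, 0), (9, 44, 1, 0), (69, 45, 1, 0), (74, 46, 1, 0),
     (75, 48, 1, 0), (62, 49, 1, 0), (54, 51, 1, 0), (68, 52, 1, 0), (49, 54, 1, 0), (28, 56, 1, 0), (43, 58, 1, 0), (5, 63, 0, 0),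
     (11, 63, 0, 1), (26, 63, 0, 3), (61, 63, 0, 81), (67, 64, 0, 81), (73, 65, 0, 81), (27, 66, 0, 81), (42, 67, 0, 81), (48, 68, 0, 81),
     (6, 72, 0, 0), (12, 72, 0, 1), (18, 72, 0, 3), (56, 72, 0, 81), (71, 73, 0, 81), (77, 74, 0, 81), (31, 75, 0, 81), (37, 76, 0, 81),
     (52, 77, 0, 81), (81, 81, 0, 0), (96, 81, 0, 1), (102, 81, 0, 3), (140, 81, 0, 81), (106, 81, 1, 0), (98, 81, 2, 0), (146, 82, 0, 81),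
     (85, 82, 1, 0), (104, 82, 2, 0), (161, 83, 0, 81), (91, 83, 1, 0), (83, 83, 2, 0), (115, 84, 0, 81), (153, 84, 1, 0), (139, 84, 2, 0),
     (151, 85, 1, 0), (90, 85, 2, 0), (145, 86, 0, 81), (100, 86, 1, 0), (97, 86, 2, 0), (121, 87, 0, 81), (141, 87, 1, 0), (157, 88, 1, 0),
     (105, 88, 2, 0), (160, 89, 0, 81), (88, 89, 1, 0), (103, 89, 2, 0), (127, 90, 0, 81), (147, 90, 1, 0), (136, 91, 1, 0), (84, 91, 2, 0),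
     (94, 92, 1, 0), (82, 92, 2, 0), (131, 93, 1, 0), (126, 93, 2, 0), (117, 94, 1, 0), (143, 94, 2, 0), (114, 95, 0, 81), (150, 95, 1, 0),
     (159, 95, 2, 0), (135, 96, 2, 0), (149, 97, 0, 81), (107, 97, 2, 0), (120, 98, 0, 81), (156, 98, 1, 0), (138, 98, 2, 0), (109, 99, 1, 0),
     (93, 99, 2, 0), (144, 100, 0, 81), (110, 101, 1, 0), (132, 102, 1, 0), (155, 104, 0, 81), (86, 104, 2, 0), (124, 106, 1, 0), (99, 106, 2, 0),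
     (125, 108, 1, 0), (111, 109, 1, 0), (92, 111, 2, 0), (130, 112, 1, 0), (87, 112, 2, 0), (95, 114, 1, 0), (113, 115, 1, 0), (116, 115, 2, 0),
     (134, 116, 2, 0), (142, 117, 2, 0), (119, 118, 1, 0), (122, 118, 2, 0), (158, 119, 2, 0), (128, 120, 0, 81), (152, 121, 2, 0), (148, 122, 2, 0),
     (154, 123, 0, 81), (137, 125, 2, 0), (129, 127, 2, 0), (118, 128, 1, 0), (101, 128, 2, 0), (108, 134, 2, 0), (133, 135, 1, 0), (89, 135, 2, 0),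
     (123, 139, 2, 0), (112, 140, 1, 0), (162, 162, 0, 0), (177, 162, 0, 1), (183, 162, 0, 3), (221, 162, 0, 81), (234, 162, 1, 0), (184, 162, 2, 0),
     (227, 163, 0, 81), (222, 163, 1, 0), (163, 163, 2, 0), (242, 164, 0, 81), (228, 164, 1, 0), (178, 164, 2, 0), (196, 165, 0, 81), (212, 165, 1, 0),
     (225, 165, 2, 0), (176, 166, 1, 0), (229, 166, 2, 0), (240, 167, 0, 81), (185, 167, 2, 0), (202, 168, 0, 81), (191, 168, 1, 0), (182, 169, 1, 0),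
     (235, 169, 2, 0), (219, 170, 0, 81), (164, 170, 2, 0), (208, 171, 0, 81), (206, 171, 1, 0), (170, 172, 1, 0), (223, 172, 2, 0), (179, 173, 2, 0),
     (187, 174, 1, 0), (197, 174, 2, 0), (232, 175, 1, 0), (189, 175, 2, 0), (203, 176, 0, 81), (220, 176, 2, 0), (180, 177, 2, 0), (204, 178, 0, 81),
     (173, 178, 1, 0), (230, 178, 2, 0), (209, 179, 0, 81), (226, 179, 2, 0), (241, 180, 0, 81), (216, 180, 1, 0), (166, 181, 1, 0), (238, 182, 1, 0),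
     (168, 183, 2, 0), (210, 184, 0, 81), (188, 184, 1, 0), (236, 184, 2, 0), (231, 186, 1, 0), (172, 187, 1, 0), (217, 188, 1, 0), (174, 189, 2, 0),
     (167, 190, 1, 0), (224, 190, 2, 0), (237, 191, 1, 0), (198, 192, 1, 0), (201, 193, 2, 0), (233, 194, 2, 0), (211, 195, 2, 0), (207, 196, 2, 0),
     (195, 197, 0, 81), (200, 197, 1, 0), (239, 198, 0, 81), (175, 198, 2, 0), (190, 199, 2, 0), (186, 200, 2, 0), (205, 201, 0, 81), (215, 203, 1, 0),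
     (194, 204, 1, 0), (213, 206, 1, 0), (218, 208, 0, 81), (181, 208, 2, 0), (165, 210, 2, 0), (192, 213, 1, 0), (169, 215, 2, 0), (171, 216, 2, 0),
     (193, 219, 2, 0), (199, 221, 0, 81), (214, 226, 0, 81)]⟩

/-- All classes. -/
def rinfos : List RepInfo := [rep0, rep1, rep2, rep3, rep4, rep5, rep6, rep7, rep8, rep12, rep15, rep21, rep24, rep39, rep42, rep48, rep69]

/-- The four representatives. -/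
def canon : List Nat := [81, 324, 2511, 39]

/-- Conjugations between the roots. -/
def tree : List (Nat × Nat × List Nat) :=
  [
  (81, 0, []),
  (162, 0, [0]),
  (6561, 1, [2, 3, 7, 4, 5, 2, 3, 4, 1, 2, 3, 7, 8, 3, 4, 1, 2, 3, 7, 6, 5, 4, 3, 2, 1, 0, 1, 2, 3, 4, 5, 6, 7, 3, 2, 1, 4, 3, 8, 7, 3, 2, 1, 4, 3, 2, 5, 4, 7, 3, 2, 3, 4, 2, 3, 7, 8, 4, 5, 3, 4, 2, 3, 7, 6, 5, 4, 3, 2, 1, 0, 1, 2, 3, 4, 5, 6, 7, 3, 2, 4, 3, 5, 4, 8, 7, 3, 2, 4, 3]),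
  (3, 1, [4, 3, 7, 8, 5, 3, 4, 1, 2, 3, 7, 6, 5, 4, 3, 2, 1, 0, 1, 2, 3, 4, 5, 6, 7, 3, 2, 1, 4, 3, 5, 8, 7, 3, 4, 3, 1, 2, 0, 1, 0, 1, 0, 2, 1, 3]),
  (13122, 2, [2, 3, 4, 1, 2, 3, 7, 5, 4, 3, 2, 1, 0, 1, 2, 3, 4, 5, 7, 3, 2, 1, 4, 3, 2]),
  (6, 3, [0]),
  (324, 6, []),
  (405, 6, [0]),
  (567, 6, [3, 4, 2, 3, 1, 2, 0, 1, 0, 1, 0, 2, 1, 3, 2, 4, 3]),
  (648, 7, [3, 4, 2, 3, 1, 2, 0, 1, 0, 1, 0, 2, 1, 3, 2, 4, 3]),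
  (6642, 7, [2, 3, 7, 4, 5, 2, 3, 4, 1, 2, 3, 7, 8, 3, 4, 1, 2, 3, 7, 6, 5, 4, 3, 2, 1, 0, 1, 2, 3, 4, 5, 6, 7, 3, 2, 1, 4, 3, 8, 7, 3, 2, 1, 4, 3, 2, 5, 4, 7, 3, 2, 7, 2, 3, 1, 2, 0, 1, 0, 1, 0, 2, 1, 3, 2, 7]),
  (246, 7, [6, 5, 4, 3, 7, 8, 3, 7, 4, 5, 3, 4, 1, 2, 3, 7, 6, 5, 4, 3, 2, 1, 0, 1, 2, 3, 4, 5, 6, 7, 3, 2, 1, 4, 3, 5, 4, 7, 3, 8, 7, 3, 4, 5, 6, 8, 7, 5, 4, 3, 1, 2, 0, 1, 0, 1, 0, 2, 1, 3, 4, 5, 7, 8]),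
  (13203, 10, [2, 3, 4, 1, 2, 3, 7, 5, 4, 3, 2, 1, 0, 1, 2, 3, 4, 5, 7, 3, 2, 1, 4, 3, 2]),
  (249, 11, [0]),
  (489, 11, [3, 4, 2, 3, 1, 2, 0, 1, 0, 1, 0, 2, 1, 3, 2, 4, 3]),
  (12, 11, [5, 4, 1, 2, 3, 7, 8, 7, 4, 5, 3, 4, 1, 2, 3, 7, 6, 5, 4, 3, 2, 1, 0, 1, 2, 3, 4, 5, 6, 7, 3, 2, 1, 4, 3, 5, 4, 7, 8, 7, 3, 2, 1, 4, 5, 7, 5, 3, 4, 2, 3, 7, 6, 5, 4, 3, 2, 1, 0, 1, 2, 3, 4, 5, 6, 7, 3, 2, 4, 3, 5, 7]),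
  (492, 14, [0]),
  (15, 15, [0]),
  (4377, 15, [7, 5, 4, 3, 2, 1, 0, 1, 2, 3, 4, 5, 7, 6, 5, 4, 3, 7, 8, 4, 2, 3, 7, 5, 4, 3, 2, 0, 1, 0, 1, 0, 2, 3, 4, 5, 7, 3, 2, 4, 8, 7, 3, 4, 5, 6]),
  (21, 15, [5, 4, 2, 3, 1, 2, 0, 1, 0, 1, 0, 2, 1, 3, 2, 4, 5]),
  (13123, 15, [4, 3, 7, 2, 3, 4, 1, 2, 3, 7, 6, 5, 4, 3, 2, 1, 0, 1, 2, 3, 4, 5, 6, 7, 3, 2, 1, 4, 3, 2, 7, 3, 4, 7, 1, 2, 3, 4, 0, 1, 2, 3, 7, 8, 4, 5, 3, 4, 1, 2, 3, 7, 6, 5, 4, 3, 2, 1, 0, 1, 2, 3, 4, 5, 6, 7, 3, 2, 1, 4, 3, 5, 4, 8, 7, 3, 2, 1, 0, 4, 3, 2, 1, 7]),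
  (24, 17, [5, 4, 2, 3, 1, 2, 0, 1, 0, 1, 0, 2, 1, 3, 2, 4, 5]),
  (2190, 18, [5, 4, 2, 3, 1, 2, 0, 1, 0, 1, 0, 2, 1, 3, 2, 4, 5]),
  (4380, 18, [0]),
  (174, 18, [7, 8, 4, 5, 2, 3, 4, 1, 2, 3, 7, 6, 5, 4, 3, 2, 1, 0, 1, 2, 3, 4, 5, 6, 7, 3, 2, 1, 4, 3, 2, 5, 4, 8, 7, 2, 3, 1, 2, 0, 1, 0, 1, 0, 2, 1, 3, 2]),
  (1, 20, [2, 3, 7, 8, 7, 3, 4, 2, 3, 7, 5, 4, 3, 2, 1, 0, 1, 2, 3, 4, 5, 7, 3, 2, 4, 3, 7, 8, 7, 3, 2, 8, 5, 4, 3, 7, 4, 5, 2, 3, 4, 1, 2, 3, 7, 8, 5, 2, 3, 4, 1, 2, 3, 7, 6, 5, 4, 3, 2, 1, 0, 1, 2, 3, 4, 5, 6, 7, 3, 2, 1, 4, 3, 2, 5, 8, 7, 3, 2, 1, 4, 3, 2, 5, 4, 7, 3, 4, 5, 8]),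
  (6563, 20, [2, 3, 7, 8, 1, 2, 3, 7, 4, 3, 2, 1, 0, 1, 2, 3, 4, 7, 3, 2, 1, 8, 7, 3, 2, 2, 3, 4, 1, 2, 3, 7, 5, 4, 3, 2, 1, 0, 1, 2, 3, 4, 5, 7, 3, 2, 1, 4, 3, 2]),
  (2193, 22, [0]),
  (93, 23, [8, 7, 3, 4, 1, 2, 3, 7, 8, 3, 4, 5, 2, 3, 4, 1, 2, 3, 7, 6, 5, 4, 3, 2, 1, 0, 1, 2, 3, 4, 5, 6, 7, 3, 2, 1, 4, 3, 2, 5, 4, 3, 8, 7, 3, 2, 1, 4, 3, 7, 8, 8, 2, 3, 7, 4, 3, 2, 1, 0, 1, 2, 3, 4, 7, 3, 2, 8]),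
  (96, 24, [0]),
  (183, 24, [5, 4, 2, 3, 1, 2, 0, 1, 0, 1, 0, 2, 1, 3, 2, 4, 5]),
  (6562, 25, [4, 3, 7, 8, 2, 3, 7, 4, 5, 2, 3, 4, 1, 2, 3, 7, 8, 4, 5, 2, 3, 4, 1, 2, 3, 7, 6, 5, 4, 3, 2, 1, 0, 1, 2, 3, 4, 5, 6, 7, 3, 2, 1, 4, 3, 2, 5, 4, 8, 7, 3, 2, 1, 4, 3, 2, 5, 4, 7, 3, 2, 8, 7, 3, 4, 2, 3, 7, 8, 7, 3, 4, 2, 3, 7, 5, 4, 3, 2, 1, 0, 1, 2, 3, 4, 5, 7, 3, 2, 4, 3, 7, 8, 7, 3, 2]),
  (2, 25, [3, 7, 8, 5, 3, 4, 1, 2, 3, 7, 6, 5, 4, 3, 2, 1, 0, 1, 2, 3, 4, 5, 6, 7, 3, 2, 1, 4, 3, 5, 8, 7, 3, 3, 2, 0, 1, 0, 1, 0, 2, 3]),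
  (177, 28, [0]),
  (102, 28, [5, 4, 2, 3, 1, 2, 0, 1, 0, 1, 0, 2, 1, 3, 2, 4, 5]),
  (105, 29, [5, 4, 2, 3, 1, 2, 0, 1, 0, 1, 0, 2, 1, 3, 2, 4, 5]),
  (13124, 31, [2, 3, 7, 8, 1, 2, 3, 7, 4, 3, 2, 1, 0, 1, 2, 3, 4, 7, 3, 2, 1, 8, 7, 3, 2, 2, 3, 4, 1, 2, 3, 7, 5, 4, 3, 2, 1, 0, 1, 2, 3, 4, 5, 7, 3, 2, 1, 4, 3, 2]),
  (186, 33, [5, 4, 2, 3, 1, 2, 0, 1, 0, 1, 0, 2, 1, 3, 2, 4, 5]),
  (2511, 38, []),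
  (2592, 38, [0]),
  (2754, 38, [3, 4, 2, 3, 1, 2, 0, 1, 0, 1, 0, 2, 1, 3, 2, 4, 3]),
  (1215, 38, [2, 3, 7, 8, 1, 2, 3, 7, 4, 3, 2, 1, 0, 1, 2, 3, 4, 7, 3, 2, 1, 8, 7, 3, 2, 5, 6, 4, 5, 2, 3, 4, 1, 2, 3, 7, 8, 5, 2, 3, 4, 1, 2, 3, 7, 6, 5, 4, 3, 2, 1, 0, 1, 2, 3, 4, 5, 6, 7, 3, 2, 1, 4, 3, 2, 5, 8, 7, 3, 2, 1, 4, 3, 2, 5, 4, 6, 5]),
  (1701, 38, [3, 7, 2, 3, 4, 1, 2, 3, 7, 6, 5, 4, 3, 2, 1, 0, 1, 2, 3, 4, 5, 6, 7, 3, 2, 1, 4, 3, 2, 7, 3, 2, 3, 7, 4, 5, 2, 3, 4, 1, 2, 3, 7, 8, 3, 4, 1, 2, 3, 7, 6, 5, 4, 3, 2, 1, 0, 1, 2, 3, 4, 5, 6, 7, 3, 2, 1, 4, 3, 8, 7, 3, 2, 1, 4, 3, 2, 5, 4, 7, 3, 2]),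
  (4779, 39, [5, 4, 2, 3, 1, 2, 0, 1, 0, 1, 0, 2, 1, 3, 2, 4, 5]),
  (255, 39, [6, 5, 4, 3, 7, 8, 3, 7, 4, 5, 3, 4, 1, 2, 3, 7, 6, 5, 4, 3, 2, 1, 0, 1, 2, 3, 4, 5, 6, 7, 3, 2, 1, 4, 3, 5, 4, 7, 3, 8, 7, 3, 4, 5, 6, 8, 7, 5, 4, 3, 1, 2, 0, 1, 0, 1, 0, 2, 1, 3, 4, 5, 7, 8]),
  (7210, 40, [2, 3, 4, 0, 1, 2, 3, 7, 8, 4, 5, 3, 4, 2, 3, 7, 6, 5, 4, 3, 2, 1, 0, 1, 2, 3, 4, 5, 6, 7, 3, 2, 4, 3, 5, 4, 8, 7, 3, 2, 1, 0, 4, 3, 2, 3, 7, 5, 4, 3, 1, 2, 0, 1, 0, 1, 0, 2, 1, 3, 4, 5, 7, 3]),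
  (6885, 41, [2, 3, 7, 4, 5, 2, 3, 4, 0, 1, 2, 3, 7, 8, 5, 3, 4, 1, 2, 3, 7, 6, 5, 4, 3, 2, 1, 0, 1, 2, 3, 4, 5, 6, 7, 3, 2, 1, 4, 3, 5, 8, 7, 3, 2, 1, 0, 4, 3, 2, 5, 4, 7, 3, 2]),
  (606, 41, [4, 2, 3, 7, 8, 3, 4, 1, 2, 3, 7, 5, 4, 3, 2, 1, 0, 1, 2, 3, 4, 5, 7, 3, 2, 1, 4, 3, 8, 7, 3, 2, 4, 3, 2, 1, 0, 1, 2, 3]),
  (13446, 42, [4, 2, 3, 7, 4, 5, 2, 3, 4, 1, 2, 3, 7, 8, 5, 3, 4, 1, 2, 3, 7, 6, 5, 4, 3, 2, 1, 0, 1, 2, 3, 4, 5, 6, 7, 3, 2, 1, 4, 3, 5, 8, 7, 3, 2, 1, 4, 3, 2, 5, 4, 7, 3, 2, 4]),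
  (13448, 43, [2, 3, 4, 0, 1, 2, 3, 7, 8, 4, 5, 3, 4, 2, 3, 7, 6, 5, 4, 3, 2, 1, 0, 1, 2, 3, 4, 5, 6, 7, 3, 2, 4, 3, 5, 4, 8, 7, 3, 2, 1, 0, 4, 3, 2, 3, 7, 5, 4, 3, 1, 2, 0, 1, 0, 1, 0, 2, 1, 3, 4, 5, 7, 3]),
  (258, 44, [0]),
  (498, 44, [3, 4, 2, 3, 1, 2, 0, 1, 0, 1, 0, 2, 1, 3, 2, 4, 3]),
  (264, 44, [5, 4, 2, 3, 1, 2, 0, 1, 0, 1, 0, 2, 1, 3, 2, 4, 5]),
  (650, 45, [8, 1, 2, 3, 7, 4, 5, 3, 4, 2, 3, 7, 8, 4, 5, 2, 3, 4, 1, 2, 3, 7, 6, 5, 4, 3, 2, 1, 0, 1, 2, 3, 4, 5, 6, 7, 3, 2, 1, 4, 3, 2, 5, 4, 8, 7, 3, 2, 4, 3, 5, 4, 7, 3, 2, 1, 8, 3, 7, 5, 4, 3, 2, 1, 0, 1, 2, 3, 4, 5, 7, 3]),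
  (325, 46, [7, 8, 3, 7, 4, 5, 3, 4, 2, 3, 7, 8, 7, 4, 5, 3, 4, 1, 2, 3, 7, 6, 5, 4, 3, 2, 1, 0, 1, 2, 3, 4, 5, 6, 7, 3, 2, 1, 4, 3, 5, 4, 7, 8, 7, 3, 2, 4, 3, 5, 4, 7, 3, 8, 7, 3, 7, 5, 4, 3, 2, 1, 0, 1, 2, 3, 4, 5, 7, 3]),
  (690, 47, [0]),
  (615, 47, [5, 4, 2, 3, 1, 2, 0, 1, 0, 1, 0, 2, 1, 3, 2, 4, 5]),
  (267, 50, [5, 4, 2, 3, 1, 2, 0, 1, 0, 1, 0, 2, 1, 3, 2, 4, 5]),
  (201, 50, [4, 3, 7, 8, 5, 3, 4, 2, 3, 7, 6, 5, 4, 3, 2, 0, 1, 0, 1, 0, 2, 3, 4, 5, 6, 7, 3, 2, 4, 3, 5, 8, 7, 3, 4, 3, 2, 1, 0, 1, 2, 3]),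
  (501, 51, [0]),
  (507, 51, [5, 4, 2, 3, 1, 2, 0, 1, 0, 1, 0, 2, 1, 3, 2, 4, 5]),
  (474, 55, [3, 4, 2, 3, 1, 2, 0, 1, 0, 1, 0, 2, 1, 3, 2, 4, 3]),
  (123, 58, [0]),
  (210, 58, [5, 4, 2, 3, 1, 2, 0, 1, 0, 1, 0, 2, 1, 3, 2, 4, 5]),
  (510, 59, [5, 4, 2, 3, 1, 2, 0, 1, 0, 1, 0, 2, 1, 3, 2, 4, 5]),
  (150, 62, [7, 2, 3, 1, 2, 0, 1, 0, 1, 0, 2, 1, 3, 2, 7]),
  (39, 66, []),
  (42, 66, [0]),
  (48, 66, [5, 4, 2, 3, 1, 2, 0, 1, 0, 1, 0, 2, 1, 3, 2, 4, 5]),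
  (579, 66, [8, 7, 4, 2, 3, 1, 2, 0, 1, 0, 1, 0, 2, 1, 3, 2, 4, 7, 8, 4, 3, 7, 8, 7, 5, 2, 3, 4, 1, 2, 3, 7, 6, 5, 4, 3, 2, 1, 0, 1, 2, 3, 4, 5, 6, 7, 3, 2, 1, 4, 3, 2, 5, 7, 8, 7, 3, 4]),
  (6600, 66, [3, 7, 4, 5, 1, 2, 3, 4, 0, 1, 2, 3, 7, 8, 7, 5, 2, 3, 4, 1, 2, 3, 7, 6, 5, 4, 3, 2, 1, 0, 1, 2, 3, 4, 5, 6, 7, 3, 2, 1, 4, 3, 2, 5, 7, 8, 7, 3, 2, 1, 0, 4, 3, 2, 1, 5, 4, 7, 3, 2, 3, 4, 1, 2, 3, 7, 5, 4, 3, 2, 1, 0, 1, 2, 3, 4, 5, 7, 3, 2, 1, 4, 3, 2]),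
  (13161, 66, [7, 1, 2, 3, 4, 0, 1, 2, 3, 7, 8, 4, 5, 2, 3, 4, 1, 2, 3, 7, 6, 5, 4, 3, 2, 1, 0, 1, 2, 3, 4, 5, 6, 7, 3, 2, 1, 4, 3, 2, 5, 4, 8, 7, 3, 2, 1, 0, 4, 3, 2, 1, 7, 2, 3, 4, 1, 2, 3, 7, 5, 4, 3, 2, 1, 0, 1, 2, 3, 4, 5, 7, 3, 2, 1, 4, 3, 2]),
  (69, 67, [7, 2, 3, 1, 2, 0, 1, 0, 1, 0, 2, 1, 3, 2, 7]),
  (336, 69, [3, 4, 2, 3, 1, 2, 0, 1, 0, 1, 0, 2, 1, 3, 2, 4, 3]),
  (663, 69, [0]),
  (588, 69, [5, 4, 2, 3, 1, 2, 0, 1, 0, 1, 0, 2, 1, 3, 2, 4, 5]),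
  (13772, 69, [8, 3, 7, 4, 3, 2, 0, 1, 0, 1, 0, 2, 3, 4, 7, 3, 8, 8, 7, 3, 4, 5, 2, 3, 4, 1, 2, 3, 7, 8, 3, 4, 1, 2, 3, 7, 6, 5, 4, 3, 2, 1, 0, 1, 2, 3, 4, 5, 6, 7, 3, 2, 1, 4, 3, 8, 7, 3, 2, 1, 4, 3, 2, 5, 4, 3, 7, 8]),
  (6886, 69, [8, 3, 7, 4, 3, 1, 2, 0, 1, 0, 1, 0, 2, 1, 3, 4, 7, 3, 8, 8, 7, 6, 4, 5, 3, 4, 0, 1, 2, 3, 7, 8, 5, 2, 3, 4, 1, 2, 3, 7, 6, 5, 4, 3, 2, 1, 0, 1, 2, 3, 4, 5, 6, 7, 3, 2, 1, 4, 3, 2, 5, 8, 7, 3, 2, 1, 0, 4, 3, 5, 4, 6, 7, 8]),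
  (363, 69, [3, 4, 0, 1, 2, 3, 7, 8, 4, 5, 2, 3, 4, 1, 2, 3, 7, 6, 5, 4, 3, 2, 1, 0, 1, 2, 3, 4, 5, 6, 7, 3, 2, 1, 4, 3, 2, 5, 4, 8, 7, 3, 2, 1, 0, 4, 3, 4, 3, 2, 1, 0, 1, 2, 3, 4]),
  (6603, 70, [0]),
  (6609, 70, [5, 4, 2, 3, 1, 2, 0, 1, 0, 1, 0, 2, 1, 3, 2, 4, 5]),
  (13164, 71, [0]),
  (13170, 71, [5, 4, 2, 3, 1, 2, 0, 1, 0, 1, 0, 2, 1, 3, 2, 4, 5]),
  (420, 73, [0]),
  (345, 73, [5, 4, 2, 3, 1, 2, 0, 1, 0, 1, 0, 2, 1, 3, 2, 4, 5]),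
  (4623, 73, [8, 2, 3, 7, 4, 3, 2, 1, 0, 1, 2, 3, 4, 7, 3, 2, 8, 8, 7, 3, 4, 1, 2, 3, 7, 8, 3, 4, 5, 2, 3, 4, 1, 2, 3, 7, 6, 5, 4, 3, 2, 1, 0, 1, 2, 3, 4, 5, 6, 7, 3, 2, 1, 4, 3, 2, 5, 4, 3, 8, 7, 3, 2, 1, 4, 3, 7, 8]),
  (120, 73, [8, 5, 4, 2, 3, 7, 6, 5, 4, 3, 2, 0, 1, 0, 1, 0, 2, 3, 4, 5, 6, 7, 3, 2, 4, 5, 8, 3, 7, 4, 3, 2, 1, 0, 1, 2, 3, 4, 7, 3]),
  (687, 73, [4, 5, 2, 3, 4, 1, 2, 3, 7, 6, 5, 4, 3, 2, 1, 0, 1, 2, 3, 4, 5, 6, 7, 3, 2, 1, 4, 3, 2, 5, 4, 8, 7, 4, 2, 3, 1, 2, 0, 1, 0, 1, 0, 2, 1, 3, 2, 4, 7, 8]),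
  (672, 74, [5, 4, 2, 3, 1, 2, 0, 1, 0, 1, 0, 2, 1, 3, 2, 4, 5]),
  (447, 78, [0]),
  (6630, 79, [3, 4, 2, 3, 1, 2, 0, 1, 0, 1, 0, 2, 1, 3, 2, 4, 3]),
  (13191, 81, [3, 4, 2, 3, 1, 2, 0, 1, 0, 1, 0, 2, 1, 3, 2, 4, 3]),
  (429, 83, [5, 4, 2, 3, 1, 2, 0, 1, 0, 1, 0, 2, 1, 3, 2, 4, 5]),
  (4620, 85, [0]),
  (204, 86, [0]),
  (129, 86, [5, 4, 2, 3, 1, 2, 0, 1, 0, 1, 0, 2, 1, 3, 2, 4, 5]),
  (609, 87, [0]),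
  (13771, 88, [2, 3, 4, 1, 2, 3, 7, 6, 5, 4, 3, 2, 1, 0, 1, 2, 3, 4, 5, 6, 7, 3, 2, 1, 4, 3, 2, 1, 2, 3, 7, 4, 5, 2, 3, 4, 0, 1, 2, 3, 7, 8, 5, 3, 4, 1, 2, 3, 7, 6, 5, 4, 3, 2, 1, 0, 1, 2, 3, 4, 5, 6, 7, 3, 2, 1, 4, 3, 5, 8, 7, 3, 2, 1, 0, 4, 3, 2, 5, 4, 7, 3, 2, 1]),
  (2433, 93, [5, 4, 2, 3, 1, 2, 0, 1, 0, 1, 0, 2, 1, 3, 2, 4, 5]),
  (231, 94, [7, 2, 3, 1, 2, 0, 1, 0, 1, 0, 2, 1, 3, 2, 7]),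
  (2436, 98, [0]),
  (2676, 98, [3, 4, 2, 3, 1, 2, 0, 1, 0, 1, 0, 2, 1, 3, 2, 4, 3]),
  (417, 100, [6, 5, 4, 3, 7, 8, 3, 7, 4, 5, 3, 4, 2, 3, 7, 6, 5, 4, 3, 2, 1, 0, 1, 2, 3, 4, 5, 6, 7, 3, 2, 4, 3, 5, 4, 7, 3, 8, 7, 3, 4, 5, 6, 8, 7, 5, 4, 3, 2, 0, 1, 0, 1, 0, 2, 3, 4, 5, 7, 8]),
  (2679, 101, [0]),
  (4863, 101, [5, 4, 2, 3, 1, 2, 0, 1, 0, 1, 0, 2, 1, 3, 2, 4, 5]),
  (339, 102, [0]),
  (660, 102, [3, 4, 2, 3, 1, 2, 0, 1, 0, 1, 0, 2, 1, 3, 2, 4, 3]),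
  (426, 102, [5, 4, 2, 3, 1, 2, 0, 1, 0, 1, 0, 2, 1, 3, 2, 4, 5]),
  (649, 102, [3, 7, 4, 3, 1, 2, 0, 1, 0, 1, 0, 2, 1, 3, 4, 7, 3, 6, 5, 3, 4, 1, 2, 3, 7, 8, 5, 2, 3, 4, 1, 2, 3, 7, 6, 5, 4, 3, 2, 1, 0, 1, 2, 3, 4, 5, 6, 7, 3, 2, 1, 4, 3, 2, 5, 8, 7, 3, 2, 1, 4, 3, 5, 6]),
  (4866, 104, [0]),
  (444, 104, [7, 8, 4, 5, 2, 3, 4, 1, 2, 3, 7, 6, 5, 4, 3, 2, 1, 0, 1, 2, 3, 4, 5, 6, 7, 3, 2, 1, 4, 3, 2, 5, 4, 8, 7, 2, 3, 1, 2, 0, 1, 0, 1, 0, 2, 1, 3, 2]),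
  (525, 104, [5, 4, 3, 7, 8, 4, 2, 3, 7, 5, 4, 3, 2, 0, 1, 0, 1, 0, 2, 3, 4, 5, 7, 3, 2, 4, 8, 7, 3, 4, 5, 7, 6, 5, 4, 3, 2, 1, 0, 1, 2, 3, 4, 5, 6, 7]),
  (348, 105, [5, 4, 2, 3, 1, 2, 0, 1, 0, 1, 0, 2, 1, 3, 2, 4, 5]),
  (582, 106, [0]),
  (669, 106, [5, 4, 2, 3, 1, 2, 0, 1, 0, 1, 0, 2, 1, 3, 2, 4, 5]),
  (6887, 108, [4, 5, 3, 4, 0, 1, 2, 3, 7, 8, 5, 4, 1, 2, 3, 7, 6, 5, 4, 3, 2, 1, 0, 1, 2, 3, 4, 5, 6, 7, 3, 2, 1, 4, 5, 8, 7, 3, 2, 1, 0, 4, 3, 5, 4, 5, 3, 4, 1, 2, 3, 7, 8, 5, 4, 1, 2, 3, 7, 6, 5, 4, 3, 2, 1, 0, 1, 2, 3, 4, 5, 6, 7, 3, 2, 1, 4, 5, 8, 7, 3, 2, 1, 4, 3, 5, 0, 1, 2, 3, 7, 8, 4, 1, 2, 3, 7, 6, 5, 4, 3, 2, 1, 0, 1, 2, 3, 4, 5, 6, 7, 3, 2, 1, 4, 8, 7, 3, 2, 1, 0]),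
  (366, 110, [0]),
  (528, 111, [0]),
  (13447, 112, [2, 3, 4, 1, 2, 3, 7, 6, 5, 4, 3, 2, 1, 0, 1, 2, 3, 4, 5, 6, 7, 3, 2, 1, 4, 3, 2, 1, 2, 3, 7, 4, 5, 2, 3, 4, 0, 1, 2, 3, 7, 8, 5, 3, 4, 1, 2, 3, 7, 6, 5, 4, 3, 2, 1, 0, 1, 2, 3, 4, 5, 6, 7, 3, 2, 1, 4, 3, 5, 8, 7, 3, 2, 1, 0, 4, 3, 2, 5, 4, 7, 3, 2, 1]),
  (591, 113, [5, 4, 2, 3, 1, 2, 0, 1, 0, 1, 0, 2, 1, 3, 2, 4, 5]),
  (282, 113, [3, 4, 1, 2, 3, 7, 8, 4, 5, 3, 4, 1, 2, 3, 7, 6, 5, 4, 3, 2, 1, 0, 1, 2, 3, 4, 5, 6, 7, 3, 2, 1, 4, 3, 5, 4, 8, 7, 3, 2, 1, 4, 3, 3, 2, 0, 1, 0, 1, 0, 2, 3]),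
  (7211, 118, [7, 8, 3, 7, 1, 2, 3, 4, 0, 1, 2, 3, 7, 8, 3, 4, 5, 2, 3, 4, 1, 2, 3, 7, 6, 5, 4, 3, 2, 1, 0, 1, 2, 3, 4, 5, 6, 7, 3, 2, 1, 4, 3, 2, 5, 4, 3, 8, 7, 3, 2, 1, 0, 4, 3, 2, 1, 7, 3, 8, 7, 3, 7, 8, 5, 4, 2, 3, 7, 3, 4, 5, 2, 3, 4, 1, 2, 3, 7, 8, 5, 3, 4, 1, 2, 3, 7, 6, 5, 4, 3, 2, 1, 0, 1, 2, 3, 4, 5, 6, 7, 3, 2, 1, 4, 3, 5, 8, 7, 3, 2, 1, 4, 3, 2, 5, 4, 3, 7, 3, 2, 4, 5, 8, 7, 3, 6, 5, 4, 1, 2, 3, 7, 8, 4, 2, 3, 7, 6, 5, 4, 3, 2, 0, 1, 0, 1, 0, 2, 3, 4, 5, 6, 7, 3, 2, 4, 8, 7, 3, 2, 1, 4, 5, 6]),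
  (326, 119, [3, 2, 1, 0, 1, 2, 3, 4, 2, 3, 7, 8, 3, 4, 1, 2, 3, 7, 6, 5, 4, 3, 2, 1, 0, 1, 2, 3, 4, 5, 6, 7, 3, 2, 1, 4, 3, 8, 7, 3, 2, 4]),
  (285, 120, [0]),
  (291, 120, [5, 4, 2, 3, 1, 2, 0, 1, 0, 1, 0, 2, 1, 3, 2, 4, 5]),
  (555, 123, [3, 4, 2, 3, 1, 2, 0, 1, 0, 1, 0, 2, 1, 3, 2, 4, 3])]

/-- The points fixed by the second representative. -/
def fixFour : List Nat := [41, 63, 154, 183, 213, 292, 293, 339, 340, 392, 424, 448, 571, 606, 679, 720, 994, 1174, 1429, 1722, 1747, 1792, 1820, 2151, 2320, 2447, 2576, 2763, 2818, 2831, 2832, 2881, 2922, 2946, 2948, 3149]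

/-- Four of them with commuting transpositions. -/
def cliqueFour : List Nat := [41, 183, 2320, 2763]

/-- The points fixed by the third representative. -/
def fixThree : List Nat := [183, 243, 339, 425, 430, 448, 488, 543, 999, 1476, 1486, 1495, 1557, 1925, 1962, 2192, 2276, 2320, 2362, 2630, 2699, 2763, 2798, 2818, 2831, 2832, 3149]

/-- Three of them with commuting transpositions. -/
def cliqueThree : List Nat := [183, 243, 430]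

end Cfsg.Lib.CosetEnum.Fi22Norm.ThreeLocal
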