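import Cfsg.Agent.Lib.CosetEnum.Fi22Norm.ThreeLocal.Trits
import Cfsg.Agent.Lib.CosetEnum.Fi22Norm.ThreeLocal.Data

/-!
# Tests for the subgroups of order three
-/

set_option autoImplicit false

namespace Cfsg.Lib.CosetEnum.Fi22Norm.ThreeLocal


open Fi22U62 (tabP)
open Fi22Out (pts)

/-- Iteration at most twice. -/
def rep (e : ℕ) (f : ℕ → ℕ) (x : ℕ) : ℕ := if e = 0 then x else if e = 1 then f x else f (f x)

/-- The action of a product of the series on vectors. -/
def mt : List (List ℕ) → ℕ → ℕ → ℕ
  | [], _, v => v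
  | m :: ms, t, v => rep (t % 3) (linD 5 m) (mt ms (t / 3) v)

/-- The matrix of the action of a product. -/
def matOf (t : ℕ) : List ℕ := (List.range 5).map fun i => mt mats t (3 ^ i)

/-- The vector of the cube. -/
def phi (m : List ℕ) (c v : ℕ) : ℕ :=
  addD 5 (addD 5 (addD 5 (linD 5 m v) (linD 5 m (linD 5 m v))) (linD 5 m (linD 5 m (linD 5 m v)))) c

/-- The vector after a move. -/
def moveV (e : RepInfo) (q w u : ℕ) : ℕ :=
  addD 5 (addD 5 (if q = 0 then u else addD 5 (e.gq.getD (q - 1) (0, 0, [])).2.1
      (linD 5 (e.gq.getD (q - 1) (0, 0, [])).2.2 u)) w)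
    (addD 5 (linD 5 e.m w) (linD 5 e.m w))

/-- The words have exponent three. -/
noncomputable def powOK : Bool :=
  pws.all fun w => sameOK tabP 9 pts (List.replicate 3 w).flatten []

/-- The normal words commute. -/
noncomputable def commOK : Bool := aws.all fun a => aws.all fun b => sameOK tabP 9 pts (a ++ b) (b ++ a)

/-- The relations along the series. -/
noncomputable def relOK : Bool :=
  (List.range 9).all fun i => (List.range 9).all fun j => !(Nat.blt i j) ||
    sameOK tabP 9 pts (pws.getD j [] ++ pws.getD i [])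
      (pws.getD i [] ++ pw (pws.drop (i + 1)) ((relc.getD i []).getD j 0))

/-- The orbits along the series. -/
noncomputable def orbOK : Bool :=
  (List.range 9).all fun i => Nat.blt (orbs.getD i (0, [])).1 3510 &&
    elemN (orbs.getD i (0, [])).2 (orbs.getD i (0, [])).1 &&
    !(elemN (orbs.getD i (0, [])).2 (twalk tabP 9 (pws.getD i []) (orbs.getD i (0, [])).1)) &&
    ((pws.getD i []).all fun g => Nat.blt g 9) &&
    (orbs.getD i (0, [])).2.all fun q => (List.range 9).all fun j => !(Nat.blt i j) ||
      elemN (orbs.getD i (0, [])).2 (twalk tabP 9 (pws.getD j []) q)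

/-- The action on the normal subgroup. -/
noncomputable def matOK : Bool :=
  ((List.range 4).all fun k => (List.range 5).all fun i =>
    sameOK tabP 9 pts (aws.getD i [] ++ sws.getD k []) (sws.getD k [] ++ pw aws ((mats.getD k []).getD i 0))) &&
  ((List.range 5).all fun i => pw aws (3 ^ i) == aws.getD i [])

/-- The moving word of a path. -/
def pathWord (ks : List ℕ) : List ℕ := ks.flatMap fun k => sws.getD k []

/-- The paths to the representatives. -/
noncomputable def pathOK : Bool :=
  (List.range 81).all fun t =>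
    elemN (rinfos.map RepInfo.r) (paths.getD t (0, [], 0)).1 &&
    (paths.getD t (0, [], 0)).2.1.all (fun k => Nat.blt k 4) &&
    Nat.blt (paths.getD t (0, [], 0)).2.2 243 &&
    sameOK tabP 9 pts ((pathWord (paths.getD t (0, [], 0)).2.1).reverse ++ pw sws (paths.getD t (0, [], 0)).1 ++
        pathWord (paths.getD t (0, [], 0)).2.1)
      (pw pws (t + 81 * (paths.getD t (0, [], 0)).2.2))

/-- The data of one class modulo the normal subgroup. -/
noncomputable def repOK (e : RepInfo) : Bool :=
  Nat.blt e.r 81 && Nat.blt e.tt 81 && Nat.blt e.c 243 && (e.m == matOf e.r) &&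
    sameOK tabP 9 pts (List.replicate 3 (pw sws e.r)).flatten (pw pws (e.tt + 81 * e.c)) &&
    e.gq.all fun g => (g.2.2 == matOf g.1) &&
      sameOK tabP 9 pts (pw sws e.r ++ pw sws g.1) (pw sws g.1 ++ pw aws g.2.1 ++ pw sws e.r)

/-- The vectors of elements of order three are listed. -/
noncomputable def coverOK (e : RepInfo) : Bool :=
  !(Nat.beq e.tt 0) || (List.range 243).all fun v =>
    !(Nat.beq (phi e.m e.c v) 0) || (Nat.beq e.r 0 && Nat.beq v 0) || elemN (e.es.map Prod.fst) v

/-- The listed vectors are obtained by moves from roots. -/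
noncomputable def listOK (e : RepInfo) : Bool :=
  (List.range e.es.length).all fun i => cond (Nat.beq (e.es.getD i (0, 0, 0, 0)).2.1 i)
    (elemN (tree.map Prod.fst) (e.r + 81 * (e.es.getD i (0, 0, 0, 0)).1))
    (Nat.blt (e.es.getD i (0, 0, 0, 0)).2.1 i && Nat.ble (e.es.getD i (0, 0, 0, 0)).2.2.1 e.gq.length &&
      Nat.beq (e.es.getD i (0, 0, 0, 0)).1 (moveV e (e.es.getD i (0, 0, 0, 0)).2.2.1
        (e.es.getD i (0, 0, 0, 0)).2.2.2 (e.es.getD (e.es.getD i (0, 0, 0, 0)).2.1 (0, 0, 0, 0)).1))

/-- The roots are conjugate to the representatives. -/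
noncomputable def treeOK : Bool :=
  (List.range tree.length).all fun k => cond (Nat.beq (tree.getD k (0, 0, [])).2.1 k)
    (elemN canon (tree.getD k (0, 0, [])).1)
    (Nat.blt (tree.getD k (0, 0, [])).2.1 k &&
      sameOK tabP 9 pts ((tree.getD k (0, 0, [])).2.2.reverse ++
          pw pws (tree.getD (tree.getD k (0, 0, [])).2.1 (0, 0, [])).1 ++ (tree.getD k (0, 0, [])).2.2)
        (pw pws (tree.getD k (0, 0, [])).1))

/-- The representatives have exponent three. -/
noncomputable def canonOK : Bool :=
  canon.all fun c => Nat.blt 0 c && Nat.blt c 19683 && sameOK tabP 9 pts (List.replicate 3 (pw pws c)).flatten []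

end Cfsg.Lib.CosetEnum.Fi22Norm.ThreeLocal
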