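import Cfsg.Agent.Lib.CosetEnum.Fi22U62.Data
import Cfsg.Agent.Lib.CosetEnum.Fi22Norm.ThreeLocal.Cert

/-! Kernel checks: the elements of order three. -/

set_option autoImplicit false
set_option maxRecDepth 100000
set_option Elab.async false

namespace Cfsg.Lib.CosetEnum.Fi22Norm.ThreeLocal

theorem coverOK_true : rinfos.all coverOK = true := by decide +kernel

theorem listOK_true : rinfos.all listOK = true := by decide +kernel

end Cfsg.Lib.CosetEnum.Fi22Norm.ThreeLocal
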