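import Cfsg.Agent.Lib.CosetEnum.Fi22Norm.ThreeLocal.ChecksSeries
import Cfsg.Agent.Lib.CosetEnum.Fi22Norm.ThreeLocal.ChecksPaths
import Cfsg.Agent.Lib.CosetEnum.Fi22Norm.ThreeLocal.ChecksLists

/-!
# The elements of order three

Every element of order three is conjugate to one of four listed representatives: it is moved into a
fixed Sylow 3-subgroup, then over a representative of its class modulo the normal subgroup of order
243, then along listed moves to a root and from there to a representative.
-/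

set_option autoImplicit false
set_option linter.unusedSectionVars false
set_option maxRecDepth 100000

namespace Cfsg.Lib.CosetEnum.Fi22Norm.ThreeLocal

open Fi22U62 (tabP)
open Fi22Out (pts)

theorem forall₂_of_getD {α β : Type*} {R : α → β → Prop} (a : α) (b : β) : ∀ {l : List α} {l' : List β},
    l.length = l'.length → (∀ i < l.length, R (l.getD i a) (l'.getD i b)) → List.Forall₂ R l l'
  | [], [], _, _ => List.Forall₂.nil
  | _ :: l, [], h, _ => by simp at h
  | [], _ :: l', h, _ => by simp at h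
  | x :: l, y :: l', h, hR => List.Forall₂.cons (by simpa using hR 0 (by simp))
      (forall₂_of_getD a b (by simpa using h) fun i hi => by simpa using hR (i + 1) (by simpa using hi))

theorem getD_mem' {α : Type*} {l : List α} {i : ℕ} (h : i < l.length) (a : α) : l.getD i a ∈ l := by
  rw [List.getD_eq_getElem _ _ h]
  exact List.getElem_mem h

variable {G : Type*} [Group G] [Finite G] {D : Set G} (T : Fi22Tab G D)

/-- The product of the first four words. -/
noncomputable abbrev sVal (t : ℕ) : G := wordVal T.A.x (pw sws t)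

/-- An element of the normal subgroup. -/
noncomputable abbrev aVal (v : ℕ) : G := wordVal T.A.x (pw aws v)

/-- An element of the Sylow subgroup. -/
noncomputable abbrev eVal (c : ℕ) : G := wordVal T.A.x (pw pws c)

theorem pws_cube : ∀ w ∈ pws, wordVal T.A.x w ^ 3 = 1 := by
  intro w hw
  have h := powOK_true
  simp only [powOK, List.all_eq_true] at h
  rw [← T.pow_word, T.eq_of_same (h w hw)]
  rfl

theorem aws_cube : ∀ w ∈ aws, wordVal T.A.x w ^ 3 = 1 := fun w hw =>
  pws_cube T w (List.mem_append_right _ hw)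

theorem aws_comm : ∀ a ∈ aws, ∀ b ∈ aws, Commute (wordVal T.A.x a) (wordVal T.A.x b) := by
  intro a ha b hb
  have h := commOK_true
  simp only [commOK, List.all_eq_true] at h
  have := T.eq_of_same (h a ha b hb)
  rw [wordVal_append, wordVal_append] at this
  exact this.symm

theorem aVal_add (u v : ℕ) : aVal T (addD 5 u v) = aVal T u * aVal T v :=
  pw_addD T.A.x (aws_cube T) (aws_comm T) u v

theorem exists_sylow : ∃ P : Subgroup G, Nat.card P = 3 ^ 9 ∧ (∀ g ∈ P, ∃ v < 19683, g = eVal T v) ∧
    ∀ u < 19683, ∀ v < 19683, eVal T u = eVal T v → u = v := by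
  have hlen : pws.length = 9 := rfl
  obtain ⟨P, h1, -, h3, h4⟩ := pw_series T.A.x T.A.f (ws := pws) (pws_cube T) (fun i j hij hj => by
      have h := relOK_true
      simp only [relOK, List.all_eq_true, List.mem_range, Bool.or_eq_true, Bool.not_eq_true'] at h
      rw [hlen] at hj
      rcases h i (by omega) j hj with h | h
      · rw [Bool.eq_false_iff, ne_eq, Nat.blt_eq] at h
        exact absurd hij h
      refine ⟨(relc.getD i []).getD j 0, ?_⟩
      have := T.eq_of_same h
      rwa [wordVal_append, wordVal_append] at this) (fun i hi => by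
      rw [hlen] at hi
      have h := orbOK_true
      simp only [orbOK, List.all_eq_true, List.mem_range, Bool.and_eq_true, Bool.or_eq_true, Bool.not_eq_true',
        Nat.blt_eq] at h
      obtain ⟨⟨⟨⟨hp, hpO⟩, hmove⟩, hwi⟩, hO⟩ := h i hi
      refine ⟨{q | q.1 ∈ (orbs.getD i (0, [])).2}, ⟨_, hp⟩, elemN_iff.1 hpO, fun hc => ?_, fun j hij hj q hq => ?_⟩
      · rw [Bool.eq_false_iff] at hmove
        refine hmove (elemN_iff.2 ?_)
        have e := T.A.walk_apply (fun g hg => T.hk.symm ▸ hwi g hg) ⟨_, hp⟩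
        rw [T.hZ, T.hk] at e
        rw [← e]
        exact hc
      · rcases hO _ hq j (hlen ▸ hj) with h | h
        · rw [Bool.eq_false_iff, ne_eq, Nat.blt_eq] at h
          exact absurd hij h
        have hwj : ∀ g ∈ pws.getD j [], g < T.A.k := by
          have hw := powOK_true
          simp only [powOK, List.all_eq_true] at hw
          have := hw _ (getD_mem' hj [])
          simp only [sameOK, Bool.and_eq_true, List.all_eq_true, Nat.blt_eq] at this
          intro g hg
          rw [T.hk]
          exact this.1.1 g (List.mem_flatten.2 ⟨_, List.mem_replicate.2 ⟨by norm_num, rfl⟩, hg⟩)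
        have e := T.A.walk_apply hwj q
        rw [T.hZ, T.hk] at e
        show (T.A.f (wordVal T.A.x (pws.getD j [])) q).1 ∈ (orbs.getD i (0, [])).2
        rw [e]
        exact elemN_iff.1 h)
  rw [hlen] at h1 h3 h4
  exact ⟨P, h1, by simpa using h3, by simpa using h4⟩

theorem eVal_inj {u v : ℕ} (hu : u < 19683) (hv : v < 19683) (h : eVal T u = eVal T v) : u = v :=
  (exists_sylow T).elim fun _ hP => hP.2.2 u hu v hv h

theorem eVal_split {t : ℕ} (ht : t < 81) (v : ℕ) : eVal T (t + 81 * v) = sVal T t * aVal T v := by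
  rw [eVal, pws, pw_append, show sws.length = 4 from rfl]
  norm_num
  rw [show t % 81 = t by omega, show (t + 81 * v) / 81 = v by omega]

theorem aVal_eq (v : ℕ) : aVal T v = eVal T (81 * v) := by
  have := eVal_split T (t := 0) (by norm_num) v
  rw [zero_add] at this
  rw [this, sVal, pw_zero, one_mul]

theorem mats_spec : List.Forall₂
    (fun s m => ∀ v, wordVal T.A.x s * aVal T v = aVal T (linD 5 m v) * wordVal T.A.x s) sws mats := by
  refine forall₂_of_getD [] [] rfl fun k hk v => ?_
  have h := matOK_true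
  simp only [matOK, List.all_eq_true, List.mem_range, Bool.and_eq_true] at h
  refine pw_linD T.A.x (aws_cube T) (aws_comm T) (forall₂_of_getD [] 0 ?_ fun i hi => ?_) v
  · change k < 4 at hk
    interval_cases k <;> rfl
  · have := T.eq_of_same (h.1 k hk i hi)
    rwa [wordVal_append, wordVal_append] at this

theorem mt_spec : ∀ {ss ms : List (List ℕ)},
    List.Forall₂ (fun s m => ∀ v, wordVal T.A.x s * aVal T v = aVal T (linD 5 m v) * wordVal T.A.x s) ss ms →
      ∀ t v, wordVal T.A.x (pw ss t) * aVal T v = aVal T (mt ms t v) * wordVal T.A.x (pw ss t) := by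
  intro ss ms h
  induction h with
  | nil => intro t v; rw [mt, show pw [] t = [] from rfl, show wordVal T.A.x [] = 1 from rfl, one_mul, mul_one]
  | @cons s m ss ms h1 _ ih =>
    intro t v
    rw [val_pw_cons, mul_assoc, ih, mt, ← mul_assoc]
    have hp : wordVal T.A.x s ^ (t % 3) * aVal T (mt ms (t / 3) v) =
        aVal T (rep (t % 3) (linD 5 m) (mt ms (t / 3) v)) * wordVal T.A.x s ^ (t % 3) := by
      have := Nat.mod_lt t (show 0 < 3 by norm_num)
      interval_cases t % 3
      · simp [rep]
      · simpa [rep] using h1 _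
      · simp only [rep, if_false, show (2 : ℕ) ≠ 0 by norm_num, show (2 : ℕ) ≠ 1 by norm_num, pow_two]
        rw [mul_assoc, h1, ← mul_assoc, h1, mul_assoc]
    rw [hp, mul_assoc]

theorem matOf_spec {t : ℕ} (v : ℕ) : sVal T t * aVal T v = aVal T (linD 5 (matOf t) v) * sVal T t := by
  refine pw_linD T.A.x (aws_cube T) (aws_comm T) (forall₂_of_getD [] 0 rfl fun i hi => ?_) v
  change i < 5 at hi
  have h := matOK_true
  simp only [matOK, List.all_eq_true, List.mem_range, Bool.and_eq_true, beq_iff_eq] at h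
  have := mt_spec T (mats_spec T) t (3 ^ i)
  rw [aVal, h.2 i hi] at this
  rw [this, matOf, List.getD_eq_getElem _ _ (by simpa using hi), List.getElem_map, List.getElem_range]

/-- Being conjugate to a representative. -/
def Red (g : G) : Prop := ∃ c ∈ canon, IsConj (eVal T c) g

theorem red_conj {g h : G} (hg : Red T g) (w : G) (e : h = w * g * w⁻¹) : Red T h := by
  obtain ⟨c, hc, hcg⟩ := hg
  exact ⟨c, hc, hcg.trans (isConj_iff.2 ⟨w, e.symm⟩)⟩

theorem tree_red : ∀ k < tree.length, Red T (eVal T (tree.getD k (0, 0, [])).1) := by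
  intro k
  induction k using Nat.strong_induction_on with
  | _ k ih =>
    intro hk
    have h := treeOK_true
    simp only [treeOK, List.all_eq_true, List.mem_range] at h
    have hk' := h k hk
    cases hb : Nat.beq (tree.getD k (0, 0, [])).2.1 k
    · rw [hb, cond_false, Bool.and_eq_true, Nat.blt_eq] at hk'
      refine red_conj T (ih _ hk'.1 (hk'.1.trans hk)) (wordVal T.A.x (tree.getD k (0, 0, [])).2.2) ?_
      rw [eVal, eVal, ← T.eq_of_same hk'.2, T.conj_word]
    · rw [hb, cond_true] at hk'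
      exact ⟨_, elemN_iff.1 hk', IsConj.refl _⟩

theorem rep_facts {e : RepInfo} (he : e ∈ rinfos) : e.r < 81 ∧ e.tt < 81 ∧ e.c < 243 ∧ e.m = matOf e.r ∧
    sVal T e.r ^ 3 = eVal T (e.tt + 81 * e.c) ∧ ∀ g ∈ e.gq, g.2.2 = matOf g.1 ∧
      sVal T g.1 * sVal T e.r = sVal T e.r * aVal T g.2.1 * sVal T g.1 := by
  have h := repOK_true
  simp only [List.all_eq_true] at h
  have h' := h e he
  simp only [repOK, Bool.and_eq_true, Nat.blt_eq, beq_iff_eq, List.all_eq_true] at h'
  obtain ⟨⟨⟨⟨⟨h1, h2⟩, h3⟩, h4⟩, h5⟩, h6⟩ := h'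
  refine ⟨h1, h2, h3, h4, ?_, fun g hg => ⟨(h6 g hg).1, ?_⟩⟩
  · rw [← T.pow_word, T.eq_of_same h5]
  · have := T.eq_of_same (h6 g hg).2
    rw [wordVal_append, wordVal_append, wordVal_append, ← mul_assoc] at this
    exact this

theorem move_red {e : RepInfo} (he : e ∈ rinfos) {q w u : ℕ} (hq : q ≤ e.gq.length)
    (h : Red T (sVal T e.r * aVal T u)) : Red T (sVal T e.r * aVal T (moveV e q w u)) := by
  obtain ⟨-, -, -, hm, -, hgq⟩ := rep_facts T he
  obtain ⟨u', hu'⟩ : ∃ u', u' = if q = 0 then u else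
    addD 5 (e.gq.getD (q - 1) (0, 0, [])).2.1 (linD 5 (e.gq.getD (q - 1) (0, 0, [])).2.2 u) := ⟨_, rfl⟩
  have hr : Red T (sVal T e.r * aVal T u') := by
    rw [hu']
    split_ifs with h0
    · exact h
    obtain ⟨hm', hc⟩ := hgq _ (getD_mem' (show q - 1 < e.gq.length by omega) (0, 0, []))
    refine red_conj T h (sVal T (e.gq.getD (q - 1) (0, 0, [])).1) ?_
    rw [aVal_add, hm', eq_mul_inv_iff_mul_eq, mul_assoc, mul_assoc, ← matOf_spec, ← mul_assoc, ← mul_assoc,
      ← hc, mul_assoc]
  obtain ⟨k, hk⟩ : ∃ k, k = linD 5 e.m w := ⟨_, rfl⟩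
  refine red_conj T hr (aVal T k) ?_
  have h3 : aVal T k ^ 3 = 1 := by
    have hmem : ∀ v, aVal T v ^ 3 = 1 := by
      intro v
      have : ∀ (ws : List (List ℕ)), (∀ a ∈ ws, wordVal T.A.x a ^ 3 = 1) →
          (∀ a ∈ ws, ∀ b ∈ ws, Commute (wordVal T.A.x a) (wordVal T.A.x b)) →
          ∀ v, wordVal T.A.x (pw ws v) ^ 3 = 1 := by
        intro ws
        induction ws with
        | nil => intro _ _ v; exact one_pow 3
        | cons a ws ih =>
          intro h1 h2 v
          have hcom : Commute (wordVal T.A.x a ^ (v % 3)) (wordVal T.A.x (pw ws (v / 3))) := by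
            refine Commute.pow_left ?_ _
            exact (Subgroup.mem_centralizer_singleton_iff.1 (pw_mem T.A.x
              (H := Subgroup.centralizer {wordVal T.A.x a}) (fun b hb =>
                Subgroup.mem_centralizer_singleton_iff.2 (h2 b (by simp [hb]) a (by simp))) _)).symm
          rw [val_pw_cons, hcom.mul_pow, ← pow_mul, mul_comm, pow_mul, h1 a (by simp), one_pow, one_mul,
            ih (fun b hb => h1 b (by simp [hb])) (fun b hb c hc => h2 b (by simp [hb]) c (by simp [hc]))]
      exact this aws (aws_cube T) (aws_comm T) v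
    exact hmem k
  have hinv : aVal T (addD 5 k k) = (aVal T k)⁻¹ := by
    rw [aVal_add, eq_inv_iff_mul_eq_one, ← h3, pow_three, mul_assoc]
  have hcom : aVal T u' * aVal T w = aVal T w * aVal T u' := by
    have h1 : ∀ a ∈ aws, Commute (aVal T w) (wordVal T.A.x a) := fun a ha =>
      Subgroup.mem_centralizer_singleton_iff.1 (pw_mem T.A.x (H := Subgroup.centralizer {wordVal T.A.x a})
        (fun b hb => Subgroup.mem_centralizer_singleton_iff.2 (aws_comm T b hb a ha).eq) w)
    exact Subgroup.mem_centralizer_singleton_iff.1 (pw_mem T.A.x (H := Subgroup.centralizer {aVal T w})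
      (fun a ha => Subgroup.mem_centralizer_singleton_iff.2 (h1 a ha).symm.eq) u')
  have hmv : moveV e q w u = addD 5 (addD 5 u' w) (addD 5 k k) := by rw [moveV, hu', hk]
  rw [hmv, aVal_add, hinv, aVal_add, hcom, ← mul_assoc, ← mul_assoc, matOf_spec, ← hm, ← hk]
  simp only [mul_assoc]

theorem es_red {e : RepInfo} (he : e ∈ rinfos) : ∀ i < e.es.length,
    Red T (sVal T e.r * aVal T (e.es.getD i (0, 0, 0, 0)).1) := by
  intro i
  induction i using Nat.strong_induction_on with
  | _ i ih =>
    intro hi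
    have h := listOK_true
    simp only [List.all_eq_true] at h
    have h' := h e he
    simp only [listOK, List.all_eq_true, List.mem_range] at h'
    have hi' := h' i hi
    cases hb : Nat.beq (e.es.getD i (0, 0, 0, 0)).2.1 i
    · rw [hb, cond_false, Bool.and_eq_true, Bool.and_eq_true, Nat.blt_eq, Nat.ble_eq, Nat.beq_eq] at hi'
      rw [hi'.2]
      exact move_red T he hi'.1.2 (ih _ hi'.1.1 (hi'.1.1.trans hi))
    · rw [hb, cond_true] at hi'
      obtain ⟨x, hx, hxe⟩ := List.mem_map.1 (elemN_iff.1 hi')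
      obtain ⟨k, hk, rfl⟩ := List.getElem_of_mem hx
      have := tree_red T k hk
      rw [List.getD_eq_getElem _ _ hk, hxe, eVal_split T (rep_facts T he).1] at this
      exact this

theorem rep_red {e : RepInfo} (he : e ∈ rinfos) {v : ℕ} (hv : v < 243)
    (h3 : (sVal T e.r * aVal T v) ^ 3 = 1) (h1 : sVal T e.r * aVal T v ≠ 1) :
    Red T (sVal T e.r * aVal T v) := by
  obtain ⟨hr, htt, hc, hm, hcube, -⟩ := rep_facts T he
  obtain ⟨S, hS⟩ : ∃ S, S = sVal T e.r := ⟨_, rfl⟩
  rw [← hS] at hcube h3
  have hmove : ∀ z, S * aVal T z = aVal T (linD 5 e.m z) * S := fun z => by rw [hS, hm]; exact matOf_spec T z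
  obtain ⟨z, hz⟩ : ∃ z, z = addD 5 (addD 5 (linD 5 e.m v) (linD 5 e.m (linD 5 e.m v)))
    (linD 5 e.m (linD 5 e.m (linD 5 e.m v))) := ⟨_, rfl⟩
  have hexp : (S * aVal T v) ^ 3 = aVal T z * S ^ 3 := by
    rw [hz, aVal_add, aVal_add, hmove, pow_three, pow_three]
    simp only [mul_assoc]
    rw [← mul_assoc S (aVal T (linD 5 e.m v)), hmove]
    simp only [mul_assoc]
    rw [← mul_assoc S (aVal T (linD 5 e.m v)), hmove]
    simp only [mul_assoc]
    rw [← mul_assoc S (aVal T (linD 5 e.m (linD 5 e.m v))), hmove]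
    simp only [mul_assoc]
  rw [hexp, hcube, eVal_split T htt] at h3
  have ht0 : e.tt = 0 := by
    obtain ⟨y, hy⟩ : ∃ y, y = addD 5 e.c z := ⟨_, rfl⟩
    have hs : sVal T e.tt = aVal T (addD 5 y y) := by
      have hy1 : sVal T e.tt = (aVal T y)⁻¹ := by
        rw [hy, aVal_add, mul_inv_rev, eq_inv_mul_iff_mul_eq, eq_inv_iff_mul_eq_one, mul_assoc, h3]
      have hy3 : aVal T y * (aVal T y * aVal T y) = 1 := by
        rw [← aVal_add, ← aVal_add]
        have hzero : addD 5 y (addD 5 y y) = 0 := by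
          have hlt := addD_lt 5 e.c z
          rw [← hy] at hlt
          have : ∀ u < 243, addD 5 u (addD 5 u u) = 0 := by decide +kernel
          exact this y (by simpa using hlt)
        rw [hzero]
        exact pw_zero _ _
      rw [hy1, aVal_add]
      exact inv_eq_of_mul_eq_one_right hy3
    have hlt : addD 5 y y < 243 := by simpa using addD_lt 5 y y
    rw [aVal_eq] at hs
    have he0 := eVal_split T htt 0
    rw [mul_zero, add_zero, show aVal T 0 = 1 from pw_zero _ _, mul_one] at he0
    rw [← he0] at hs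
    have := eVal_inj T (by omega) (by omega) hs
    omega
  rw [ht0, show sVal T 0 = 1 from pw_zero _ _, one_mul, ← aVal_add] at h3
  have hp : phi e.m e.c v = 0 := by
    have hlt : addD 5 z e.c < 243 := by simpa using addD_lt 5 z e.c
    rw [← show aVal T 0 = 1 from pw_zero _ _, aVal_eq, aVal_eq] at h3
    have := eVal_inj T (by omega) (by omega) h3
    rw [phi, ← hz]
    omega
  have h := coverOK_true
  simp only [List.all_eq_true] at h
  have h' := h e he
  simp only [coverOK, Bool.or_eq_true, Bool.not_eq_true', List.all_eq_true, List.mem_range] at h'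
  rcases h' with h' | h'
  · simp [ht0] at h'
  rcases h' v hv with (h'' | h'') | h''
  · simp [hp] at h''
  · simp only [Bool.and_eq_true, Nat.beq_eq] at h''
    rw [h''.1, h''.2] at h1
    exact absurd (by simp [sVal, aVal, pw_zero]) h1
  · obtain ⟨x, hx, rfl⟩ := List.mem_map.1 (elemN_iff.1 h'')
    obtain ⟨i, hi, rfl⟩ := List.getElem_of_mem hx
    have := es_red T he i hi
    rwa [List.getD_eq_getElem _ _ hi] at this

theorem aVal_pathWord : ∀ ks : List ℕ, (∀ k ∈ ks, k < 4) → ∀ z < 243, ∃ w < 243,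
    (wordVal T.A.x (pathWord ks))⁻¹ * aVal T z * wordVal T.A.x (pathWord ks) = aVal T w
  | [], _, z, hz => ⟨z, hz, by rw [show wordVal T.A.x (pathWord []) = 1 from rfl, inv_one, one_mul, mul_one]⟩
  | k :: ks, hks, z, hz => by
    obtain ⟨w, hw, he⟩ := aVal_pathWord ks (fun j hj => hks j (by simp [hj])) z hz
    have hk : k < sws.length := hks k (by simp)
    obtain ⟨m, hm⟩ : ∃ m, m = mats.getD k [] := ⟨_, rfl⟩
    have hR : ∀ v, wordVal T.A.x (sws.getD k []) * aVal T v = aVal T (linD 5 m v) * wordVal T.A.x (sws.getD k []) := by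
      have := List.forall₂_iff_get.1 (mats_spec T)
      rw [hm, List.getD_eq_getElem _ _ hk, List.getD_eq_getElem _ _ (this.1 ▸ hk)]
      exact this.2 k hk (this.1 ▸ hk)
    refine ⟨linD 5 m (linD 5 m w), by simpa using linD_lt 5 m _, ?_⟩
    rw [show pathWord (k :: ks) = sws.getD k [] ++ pathWord ks from rfl, wordVal_append, mul_inv_rev]
    obtain ⟨s, hs⟩ : ∃ s, s = wordVal T.A.x (sws.getD k []) := ⟨_, rfl⟩
    have hs3 : s ^ 3 = 1 := hs ▸ pws_cube T _ (List.mem_append_left _ (getD_mem' hk []))
    rw [← hs] at hR ⊢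
    calc _ = s⁻¹ * ((wordVal T.A.x (pathWord ks))⁻¹ * aVal T z * wordVal T.A.x (pathWord ks)) * s := by
          simp only [mul_assoc]
      _ = s⁻¹ * aVal T w * s := by rw [he]
      _ = s * s * aVal T w * s := by
          rw [show s⁻¹ = s * s from inv_eq_of_mul_eq_one_right (by rw [← hs3, pow_three])]
      _ = aVal T (linD 5 m (linD 5 m w)) := by
          rw [mul_assoc s s, hR, ← mul_assoc s, hR, mul_assoc, mul_assoc, ← pow_three, hs3, mul_one]

theorem sylow_red {t v : ℕ} (ht : t < 81) (hv : v < 243)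
    (h3 : (sVal T t * aVal T v) ^ 3 = 1) (h1 : sVal T t * aVal T v ≠ 1) : Red T (sVal T t * aVal T v) := by
  have h := pathOK_true
  simp only [pathOK, List.all_eq_true, List.mem_range, Bool.and_eq_true, Nat.blt_eq] at h
  obtain ⟨⟨⟨hu, hks⟩, hc⟩, heq⟩ := h t ht
  obtain ⟨⟨u, ks, c⟩, hp⟩ : ∃ p, p = paths.getD t (0, [], 0) := ⟨_, rfl⟩
  rw [← hp] at hu hks hc heq
  dsimp only at hu hks hc heq
  obtain ⟨e, he, hr⟩ := List.mem_map.1 (elemN_iff.1 hu)
  change e.r = u at hr
  have h' := T.eq_of_same heq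
  rw [T.conj_word, show wordVal T.A.x (pw pws (t + 81 * c)) = eVal T (t + 81 * c) from rfl, eVal_split T ht] at h'
  obtain ⟨W, hW⟩ : ∃ W, W = wordVal T.A.x (pathWord ks) := ⟨_, rfl⟩
  rw [← hW] at h'
  obtain ⟨w, hw, hzw⟩ := aVal_pathWord T ks hks (addD 5 (addD 5 c c) v) (by simpa using addD_lt 5 _ v)
  rw [← hW] at hzw
  have hcc : aVal T c * (aVal T c * aVal T c) = 1 := by
    rw [← aVal_add, ← aVal_add]
    have : ∀ u < 243, addD 5 u (addD 5 u u) = 0 := by decide +kernel
    rw [this c hc]
    exact pw_zero _ _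
  have key : sVal T t * aVal T v = W * (sVal T u * aVal T w) * W⁻¹ := by
    rw [← hzw, aVal_add, aVal_add]
    calc sVal T t * aVal T v = sVal T t * aVal T c * (aVal T c * aVal T c) * aVal T v := by
          rw [mul_assoc (sVal T t) (aVal T c), hcc, mul_one]
      _ = _ := by rw [← h']; group
  rw [← hr] at key
  refine red_conj T (rep_red T he hw ?_ fun hone => h1 (by rw [key, hone, mul_one, mul_inv_cancel])) W key
  rw [key, ← MulAut.conj_apply, ← map_pow] at h3
  exact (MulAut.conj W).injective (h3.trans (map_one _).symm)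

/-- Every element of order three is conjugate to a representative. -/
theorem red_of_order_three (g : G) (hg : g ^ 3 = 1) (hg1 : g ≠ 1) : Red T g := by
  have : Fact (Nat.Prime 3) := ⟨by norm_num⟩
  obtain ⟨P, hP, hnf, -⟩ := exists_sylow T
  have hfac : (Nat.card G).factorization 3 = 9 := by
    rw [T.card, show (2 ^ 17 * 3 ^ 9 * 5 ^ 2 * 7 * 11 * 13 : ℕ) = 3 ^ 9 * (2 ^ 17 * 5 ^ 2 * 7 * 11 * 13) by norm_num,
      Nat.factorization_mul (by norm_num) (by norm_num), Finsupp.add_apply,
      Nat.Prime.factorization_pow (by norm_num), Finsupp.single_eq_same,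
      Nat.factorization_eq_zero_of_not_dvd (by norm_num), add_zero]
  let P₀ : Sylow 3 G := Sylow.ofCard P (by rw [hP, hfac])
  have hpg : IsPGroup 3 (Subgroup.zpowers g) := by
    refine IsPGroup.of_card (n := 1) ?_
    rw [Nat.card_zpowers, orderOf_eq_prime hg hg1, pow_one]
  obtain ⟨Q, hQ⟩ := hpg.exists_le_sylow
  obtain ⟨w, hw⟩ := MulAction.exists_smul_eq G P₀ Q
  have hgQ : g ∈ (P₀ : Subgroup G).map (MulAut.conj w).toMonoidHom := by
    have : g ∈ ((w • P₀ : Sylow 3 G) : Subgroup G) := by rw [hw]; exact hQ (Subgroup.mem_zpowers g)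
    exact this
  obtain ⟨y, hy, rfl⟩ := hgQ
  obtain ⟨v, hv, rfl⟩ := hnf y hy
  have e := eVal_split T (t := v % 81) (Nat.mod_lt _ (by norm_num)) (v / 81)
  rw [Nat.mod_add_div] at e
  refine red_conj T ?_ w rfl
  rw [e]
  refine sylow_red T (Nat.mod_lt _ (by norm_num)) (by omega) ?_ fun h => hg1 (by
    show (MulAut.conj w) (eVal T v) = 1
    rw [e, h, map_one])
  rw [← e]
  refine (MulAut.conj w).injective ?_
  rw [map_pow, map_one]
  exact hg

end Cfsg.Lib.CosetEnum.Fi22Norm.ThreeLocal
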