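import Cfsg.Agent.Lib.CosetEnum.Fi22Norm.ThreeLocal.Clique
import Cfsg.Agent.Lib.CosetEnum.Fi22Norm.ThreeLocal.Cert

/-! Kernel checks: the transpositions commuting with the representatives. -/

set_option autoImplicit false
set_option maxRecDepth 100000
set_option Elab.async false

namespace Cfsg.Lib.CosetEnum.Fi22Norm.ThreeLocal

open Fi22U62 (tabP)
open Fi22Out (pts)

theorem six_ok : sameOK tabP 9 pts (pw pws 81) (conjWord [1] ++ conjWord []) = true ∧
    twalk tabP 9 [] (pts.getD 0 0) = 0 ∧ twalk tabP 9 [1] (pts.getD 0 0) = 1 ∧
    Nat.beq (twalk tabP 9 (conjWord []) 1) 1 = false := by decide +kernel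

theorem range_ok : ((pw pws 324).all fun g => Nat.blt g 9) = true ∧ ((pw pws 2511).all fun g => Nat.blt g 9) = true ∧
    ((pw pws 39).all fun g => Nat.blt g 9) = true := by decide +kernel

theorem four_scan : scanOK tabP 9 [(pw pws 324, true)] (elemN fixFour) 3510 0 = true := by decide +kernel

theorem four_fix :
    (fixFour.all fun q => Nat.blt q 3510 && Nat.beq (twalk tabP 9 (pw pws 324) q) q) = true := by decide +kernel

theorem three_scan : scanOK tabP 9 [(pw pws 2511, true)] (elemN fixThree) 3510 0 = true := by decide +kernel

theorem three_fix :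
    (fixThree.all fun q => Nat.blt q 3510 && Nat.beq (twalk tabP 9 (pw pws 2511) q) q) = true := by decide +kernel

theorem zero_scan : scanOK tabP 9 [(pw pws 39, true)] (elemN []) 3510 0 = true := by decide +kernel

theorem four_noK : noK adjF 5 fixFour = true := by decide +kernel

theorem three_noK : noK adjF 4 fixThree = true := by decide +kernel

theorem four_clique : cliqueOK cliqueFour = true ∧ (cliqueFour.all fun q => elemN fixFour q) = true := by
  decide +kernel

theorem three_clique : cliqueOK cliqueThree = true ∧ (cliqueThree.all fun q => elemN fixThree q) = true := by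
  decide +kernel

end Cfsg.Lib.CosetEnum.Fi22Norm.ThreeLocal
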