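import Cfsg.Agent.Lib.CosetEnum.Fi22Norm.Common
import Cfsg.Agent.Lib.Fischer.Relations.Twenty.Order

/-!
# Widths of sets of listed transpositions
-/

set_option autoImplicit false
set_option linter.unusedSectionVars false
set_option maxRecDepth 20000

namespace Cfsg.Lib.CosetEnum.Fi22Norm.ThreeLocal

open Cfsg.Lib.Fischer.Relations
open Fi22U62 (tabP)

/-- Every extension by one member fails. -/
def extB (adj : ℕ → ℕ → Bool) (f : List ℕ → Bool) : List ℕ → Bool
  | [] => true
  | p :: L => f (L.filter (adj p)) && extB adj f L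

/-- No given number of listed members are pairwise adjacent. -/
def noK (adj : ℕ → ℕ → Bool) : ℕ → List ℕ → Bool
  | 0, _ => false
  | k + 1, L => extB adj (noK adj k) L

theorem noK_spec {adj : ℕ → ℕ → Bool} :
    ∀ (k : ℕ) (L : List ℕ), noK adj k L = true → ∀ E : Finset ℕ, (∀ a ∈ E, a ∈ L) →
      (∀ a ∈ E, ∀ b ∈ E, a ≠ b → adj a b = true) → E.card < k := by
  intro k
  induction k with
  | zero => intro L h; simp [noK] at h
  | succ k ih =>
    intro L h
    rw [noK] at h
    induction L with
    | nil =>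
      intro E hE _
      obtain rfl : E = ∅ := Finset.eq_empty_of_forall_notMem fun a ha => by simpa using hE a ha
      simp
    | cons p L ihL =>
      intro E hE hc
      rw [extB, Bool.and_eq_true] at h
      by_cases hp : p ∈ E
      · have := ih _ h.1 (E.erase p) (fun a ha => by
          obtain ⟨h1, h2⟩ := Finset.mem_erase.1 ha
          rcases List.mem_cons.1 (hE a h2) with h3 | h3
          · exact absurd h3 h1
          · exact List.mem_filter.2 ⟨h3, hc p hp a h2 (Ne.symm h1)⟩)
          (fun a ha b hb => hc a (Finset.mem_of_mem_erase ha) b (Finset.mem_of_mem_erase hb))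
        rw [Finset.card_erase_of_mem hp] at this
        have := Finset.card_pos.2 ⟨p, hp⟩
        omega
      · exact ihL h.2 E (fun a ha => (List.mem_cons.1 (hE a ha)).resolve_left fun e => hp (e ▸ ha)) hc

/-- Possibly commuting transpositions. -/
noncomputable def adjF (p q : ℕ) : Bool := !(Nat.beq (relN tabP 9 moves p q) 0)

/-- A list of pairwise commuting transpositions of points. -/
noncomputable def cliqueOK (C : List ℕ) : Bool :=
  C.all fun p => Nat.blt p 3510 && C.all fun q =>
    Nat.beq (relN tabP 9 moves p q) 1 || Nat.beq (relN tabP 9 moves p q) 3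

variable {G : Type*} [Group G] [Finite G] {D : Set G} (T : Fi22Tab G D)

theorem adjF_of_commute {p q : Fin 3510} (h : Commute (T.A.delta p) (T.A.delta q)) (hne : p ≠ q) :
    adjF p.1 q.1 = true := by
  simp only [adjF, Bool.not_eq_true']
  rw [Bool.eq_false_iff]
  intro h0
  have h0' : relN T.A.Z T.A.k moves p.1 q.1 = 0 := by rw [T.hZ, T.hk]; exact Nat.eq_of_beq_eq_true h0
  have := relN_cases T.base moves p q 0 h0' (by norm_num)
  rw [if_neg hne, if_pos ((T.A.commute_delta_iff _ _).1 h.eq)] at this
  norm_num at this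

theorem commute_of_rel {p q : Fin 3510}
    (h : relN tabP 9 moves p.1 q.1 = 1 ∨ relN tabP 9 moves p.1 q.1 = 3) :
    Commute (T.A.delta p) (T.A.delta q) := by
  rw [← T.hZ, ← T.hk] at h
  by_cases hpq : p = q
  · rw [hpq]
  by_cases hf : T.A.f (T.A.delta p) q = q
  · exact (T.A.commute_delta_iff _ _).2 hf
  rcases h with h | h <;>
    · have := relN_cases T.base moves p q _ h (by norm_num)
      rw [if_neg hpq, if_neg hf] at this
      norm_num at this

/-- The width of the transpositions of listed points. -/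
theorem width_points {F C : List ℕ} {k : ℕ} (hno : noK adjF (k + 1) F = true) (hC : cliqueOK C = true)
    (hsub : (C.all fun q => elemN F q) = true) (hnd : C.Nodup) (hlen : C.length = k) :
    Cfsg.commutingWidth {y | ∃ q : Fin 3510, q.1 ∈ F ∧ T.A.delta q = y} = k := by
  classical
  simp only [cliqueOK, List.all_eq_true, Bool.and_eq_true, Nat.blt_eq, Bool.or_eq_true, Nat.beq_eq] at hC
  simp only [List.all_eq_true, elemN_iff] at hsub
  refine le_antisymm ?_ ?_
  · obtain ⟨E, hE, hc, hn⟩ := exists_width {y | ∃ q : Fin 3510, q.1 ∈ F ∧ T.A.delta q = y}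
    rw [← hn]
    obtain ⟨P, hP⟩ : ∃ P, P = Finset.univ.filter fun q : Fin 3510 => T.A.delta q ∈ E := ⟨_, rfl⟩
    have hcard : P.card = E.ncard := by
      have : E = T.A.delta '' (P : Set (Fin 3510)) := by
        ext y
        refine ⟨fun hy => ?_, ?_⟩
        · obtain ⟨q, -, rfl⟩ := hE hy
          exact ⟨q, by simp [hP, hy], rfl⟩
        · rintro ⟨q, hq, rfl⟩
          simpa [hP] using hq
      rw [this, Set.ncard_image_of_injective _ T.A.delta_injective, Set.ncard_coe_finset]
    have hlt := noK_spec (adj := adjF) (k + 1) F hno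
      (P.map Fin.valEmbedding) (fun a ha => ?_) (fun a ha b hb hab => ?_)
    · rw [Finset.card_map] at hlt
      omega
    · obtain ⟨q, hq, rfl⟩ := Finset.mem_map.1 ha
      rw [hP] at hq
      obtain ⟨r, hr, e⟩ := hE (Finset.mem_filter.1 hq).2
      rw [← T.A.delta_injective e]
      exact hr
    · obtain ⟨q, hq, rfl⟩ := Finset.mem_map.1 ha
      obtain ⟨r, hr, rfl⟩ := Finset.mem_map.1 hb
      rw [hP] at hq hr
      exact adjF_of_commute T (hc _ (Finset.mem_filter.1 hq).2 _ (Finset.mem_filter.1 hr).2)
        fun e => hab (by rw [e])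
  · obtain ⟨W, hW⟩ : ∃ W, W = {y | ∃ q : Fin 3510, q.1 ∈ C ∧ T.A.delta q = y} := ⟨_, rfl⟩
    have hWc : W.ncard = k := by
      have e : W = T.A.delta '' ((Finset.univ.filter fun q : Fin 3510 => q.1 ∈ C) : Finset (Fin 3510)) := by
        ext y; simp [hW]
      rw [e, Set.ncard_image_of_injective _ T.A.delta_injective, Set.ncard_coe_finset, ← hlen,
        ← List.toFinset_card_of_nodup hnd, ← Finset.card_map Fin.valEmbedding]
      congr 1
      ext a
      simp only [Finset.mem_map, Finset.mem_filter, Finset.mem_univ, true_and, List.mem_toFinset]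
      exact ⟨by rintro ⟨q, hq, rfl⟩; exact hq, fun ha => ⟨⟨a, (hC a ha).1⟩, ha, rfl⟩⟩
    rw [← hWc]
    refine le_width (hW ▸ fun y ⟨q, hq, e⟩ => ⟨q, hsub _ hq, e⟩) ?_
    rw [hW]
    rintro _ ⟨p, hp, rfl⟩ _ ⟨q, hq, rfl⟩
    exact commute_of_rel T ((hC _ hp).2 _ hq)

end Cfsg.Lib.CosetEnum.Fi22Norm.ThreeLocal
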