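import Cfsg.Agent.Lib.CosetEnum.Fi22Norm.ThreeLocal.Classes
import Cfsg.Agent.Lib.CosetEnum.Fi22Norm.ThreeLocal.ChecksFixed
import Cfsg.Agent.Lib.Fischer.Relations.ThreeA.SixNorm

/-!
# The four classes of subgroups of order three

The representatives are separated by the largest numbers of pairwise commuting transpositions
centralising them: 6, 4, 3 and 0.
-/

set_option autoImplicit false
set_option linter.unusedSectionVars false
set_option maxRecDepth 100000

namespace Cfsg.Lib.CosetEnum.Fi22Norm.ThreeLocal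

open Cfsg.Lib.Fischer Cfsg.Lib.Fischer.Relations
open Fi22U62 (tabP)

variable {G : Type*} [Group G] [Finite G] {D : Set G} (T : Fi22Tab G D)

/-- The subgroup of a representative. -/
noncomputable abbrev cyc (c : ℕ) : Subgroup G := Subgroup.zpowers (eVal T c)

/-- The transpositions centralising a subgroup. -/
abbrev dCent (D : Set G) (Y : Subgroup G) : Set G := D ∩ (Subgroup.centralizer (Y : Set G) : Set G)

theorem canon_facts {c : ℕ} (hc : c ∈ canon) : eVal T c ^ 3 = 1 ∧ eVal T c ≠ 1 := by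
  have h := canonOK_true
  simp only [canonOK, List.all_eq_true, Bool.and_eq_true, Nat.blt_eq] at h
  obtain ⟨⟨h1, h2⟩, h3⟩ := h c hc
  refine ⟨by rw [← T.pow_word, T.eq_of_same h3]; rfl, fun he => ?_⟩
  have : eVal T c = eVal T 0 := by rw [he, eVal, pw_zero]
  have := eVal_inj T h2 (by norm_num) this
  omega

theorem card_cyc {c : ℕ} (hc : c ∈ canon) : Nat.card (cyc T c) = 3 := by
  have : Fact (Nat.Prime 3) := ⟨by norm_num⟩
  rw [Nat.card_zpowers, orderOf_eq_prime (canon_facts T hc).1 (canon_facts T hc).2]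

theorem width_image (e : G ≃* G) (S : Set G) :
    Cfsg.commutingWidth (e '' S) = Cfsg.commutingWidth S := by
  have h : ∀ (e : G ≃* G) (S : Set G), Cfsg.commutingWidth S ≤ Cfsg.commutingWidth (e '' S) := by
    intro e S
    obtain ⟨E, hE, hc, hn⟩ := exists_width S
    rw [← hn, ← Set.ncard_image_of_injective E e.injective]
    refine le_width (Set.image_mono hE) ?_
    rintro _ ⟨a, ha, rfl⟩ _ ⟨b, hb, rfl⟩
    exact (hc a ha b hb).map e
  refine le_antisymm ((h e.symm _).trans ?_) (h e S)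
  rw [← Set.image_comp]
  simp

include T in
theorem dCent_map (g : G) (Y : Subgroup G) :
    dCent D (Y.map (MulAut.conj g).toMonoidHom) = MulAut.conj g '' dCent D Y := by
  have hD : ∀ w : G, ∀ y ∈ D, w * y * w⁻¹ ∈ D := fun w y hy => by
    have h0 : IsConj T.A.d y := (Set.ext_iff.1 T.class_eq y).2 hy
    exact (Set.ext_iff.1 T.class_eq _).1 (h0.trans (isConj_iff.2 ⟨w, rfl⟩))
  have hcom : ∀ w : G, ∀ y ∈ Subgroup.centralizer (Y : Set G),
      w * y * w⁻¹ ∈ Subgroup.centralizer (Y.map (MulAut.conj w).toMonoidHom : Set G) := by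
    intro w y hy
    rw [Subgroup.mem_centralizer_iff] at hy ⊢
    rintro _ ⟨z, hz, rfl⟩
    show w * z * w⁻¹ * (w * y * w⁻¹) = w * y * w⁻¹ * (w * z * w⁻¹)
    rw [show w * z * w⁻¹ * (w * y * w⁻¹) = w * (z * y) * w⁻¹ by group, hy z hz]
    group
  ext y
  constructor
  · rintro ⟨hy, hc⟩
    refine ⟨g⁻¹ * y * g⁻¹⁻¹, ⟨hD _ y hy, ?_⟩, by simp [mul_assoc]⟩
    rw [SetLike.mem_coe, Subgroup.mem_centralizer_iff] at hc ⊢
    intro z hz
    have := hc (g * z * g⁻¹) ⟨z, hz, rfl⟩
    calc z * (g⁻¹ * y * g⁻¹⁻¹) = g⁻¹ * (g * z * g⁻¹ * y) * g := by group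
      _ = _ := by rw [this]; group
  · rintro ⟨z, ⟨hz, hc⟩, rfl⟩
    exact ⟨hD g z hz, hcom g z hc⟩

theorem width_four : Cfsg.commutingWidth (dCent D (cyc T 324)) = 4 := by
  rw [dCent, cyc, T.class_cent range_ok.1 four_scan four_fix]
  exact width_points T four_noK four_clique.1 four_clique.2 (by decide) rfl

theorem width_three : Cfsg.commutingWidth (dCent D (cyc T 2511)) = 3 := by
  rw [dCent, cyc, T.class_cent range_ok.2.1 three_scan three_fix]
  exact width_points T three_noK three_clique.1 three_clique.2 (by decide) rfl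

theorem width_zero : Cfsg.commutingWidth (dCent D (cyc T 39)) = 0 := by
  rw [dCent, cyc, T.class_cent range_ok.2.2 zero_scan rfl]
  obtain ⟨E, hE, -, hn⟩ := exists_width {y : G | ∃ q : Fin 3510, q.1 ∈ ([] : List ℕ) ∧ T.A.delta q = y}
  rw [← hn, Set.ncard_eq_zero]
  exact Set.eq_empty_of_forall_notMem fun y hy => by simpa using hE hy

include T in
theorem width_six (hT : Trans D) (hprim : Cfsg.IsPrimitiveUnderConj D) (h22 : Cfsg.IsOfTypeM22 G D) :
    Cfsg.commutingWidth (dCent D (cyc T 81)) = 6 := by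
  obtain ⟨hw, h0, h1, hnc⟩ := six_ok
  have e : eVal T 81 = T.A.delta ⟨0, by norm_num⟩ * T.A.delta ⟨1, by norm_num⟩ := by
    rw [eVal, T.eq_of_same hw, wordVal_append, T.delta_moved (m := []) rfl h0 (by norm_num),
      T.delta_moved (m := [1]) rfl h1 (by norm_num)]
  have hmem : ∀ q, T.A.delta q ∈ D := fun q =>
    (Set.ext_iff.1 T.class_eq _).1 ((T.A.isConj_iff_exists _).2 ⟨q, rfl⟩)
  rw [cyc, e]
  refine (ThreeA.six_normalizer hT hprim h22 (hmem _) (hmem _) fun hc => ?_).2.2.2.1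
  have hf := (T.A.commute_delta_iff _ _).1 hc.eq
  rw [T.delta_moved (m := []) rfl h0 (by norm_num)] at hf
  have hwl := T.A.walk_apply (w := conjWord []) (fun g hg => by rw [T.hk]; simp [conjWord] at hg; omega)
    (⟨1, by norm_num⟩ : Fin 3510)
  rw [hf, T.hZ, T.hk] at hwl
  simp [← hwl] at hnc

/-- Each subgroup of order three is conjugate to one of the four. -/
theorem exists_rep (X : Subgroup G) (hX : Nat.card X = 3) :
    ∃ c ∈ canon, ∃ g : G, X.map (MulAut.conj g).toMonoidHom = cyc T c := by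
  have : Fact (Nat.Prime 3) := ⟨by norm_num⟩
  obtain ⟨x, hx, hx1⟩ : ∃ x ∈ X, x ≠ 1 := by
    by_contra h
    push_neg at h
    rw [(Subgroup.eq_bot_iff_forall X).2 h, Subgroup.card_bot] at hX
    norm_num at hX
  have hx3 : x ^ 3 = 1 := by
    have := pow_card_eq_one' (x := (⟨x, hx⟩ : X))
    rw [hX] at this
    exact congrArg Subtype.val this
  have hXeq : Subgroup.zpowers x = X := Subgroup.eq_of_le_of_card_ge (Subgroup.zpowers_le.2 hx) (by
    rw [hX, Nat.card_zpowers, orderOf_eq_prime hx3 hx1])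
  obtain ⟨c, hc, hcx⟩ := red_of_order_three T x hx3 hx1
  obtain ⟨w, hw⟩ := isConj_iff.1 hcx
  refine ⟨c, hc, w⁻¹, ?_⟩
  rw [← hXeq, MonoidHom.map_zpowers, cyc]
  refine congrArg Subgroup.zpowers ?_
  show w⁻¹ * x * w⁻¹⁻¹ = eVal T c
  rw [← hw]
  group

include T in
theorem main (hT : Trans D) (hprim : Cfsg.IsPrimitiveUnderConj D) (h22 : Cfsg.IsOfTypeM22 G D) :
    ∃ Y : Fin 4 → Subgroup G, (∀ i, Nat.card (Y i) = 3) ∧
      (∀ i j, (∃ g : G, (Y i).map (MulAut.conj g).toMonoidHom = Y j) → i = j) ∧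
      (∀ X : Subgroup G, Nat.card X = 3 → ∃ i, ∃ g : G, X.map (MulAut.conj g).toMonoidHom = Y i) ∧
      Cfsg.commutingWidth (dCent D (Y 0)) = 6 ∧ Cfsg.commutingWidth (dCent D (Y 1)) = 4 ∧
      Cfsg.commutingWidth (dCent D (Y 2)) = 3 ∧ Cfsg.commutingWidth (dCent D (Y 3)) = 0 := by
  let cf : Fin 4 → ℕ := ![81, 324, 2511, 39]
  let wf : Fin 4 → ℕ := ![6, 4, 3, 0]
  have hmem : ∀ i, cf i ∈ canon := by decide
  have hw : ∀ i, Cfsg.commutingWidth (dCent D (cyc T (cf i))) = wf i := by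
    intro i
    fin_cases i
    exacts [width_six T hT hprim h22, width_four T, width_three T, width_zero T]
  refine ⟨fun i => cyc T (cf i), fun i => card_cyc T (hmem i), ?_, ?_, hw 0, hw 1, hw 2, hw 3⟩
  · rintro i j ⟨g, hg⟩
    have he : wf i = wf j := by
      rw [← hw i, ← hw j, ← width_image (MulAut.conj g) (dCent D (cyc T (cf i))), ← dCent_map T, hg]
    exact (by decide : ∀ i j, wf i = wf j → i = j) i j he
  · intro X hX
    obtain ⟨c, hc, g, hg⟩ := exists_rep T X hX
    obtain ⟨i, rfl⟩ : ∃ i, cf i = c := (by decide : ∀ c ∈ canon, ∃ i, cf i = c) c hc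
    exact ⟨i, g, hg⟩

end Cfsg.Lib.CosetEnum.Fi22Norm.ThreeLocal
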