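import Cfsg.Agent.Lib.CosetEnum.Fi22Norm.Common

/-!
# Products of listed words with exponents below three
-/

set_option autoImplicit false
set_option linter.unusedSectionVars false

namespace Cfsg.Lib.CosetEnum.Fi22Norm.ThreeLocal

open Cfsg.Lib.CosetEnum

/-- The word of the product of the listed words with the digits of a number as exponents. -/
def pw : List (List ℕ) → ℕ → List ℕ
  | [], _ => []
  | w :: ws, v => pw ws (v / 3) ++ (List.replicate (v % 3) w).flatten

/-- Digitwise sum. -/
def addD : ℕ → ℕ → ℕ → ℕ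
  | 0, _, _ => 0
  | k + 1, u, v => (u % 3 + v % 3) % 3 + 3 * addD k (u / 3) (v / 3)

/-- The image of a vector under a map given on the basis. -/
def linD (k : ℕ) : List ℕ → ℕ → ℕ
  | [], _ => 0
  | m :: ms, v =>
    addD k (if v % 3 = 0 then 0 else if v % 3 = 1 then m else addD k m m) (linD k ms (v / 3))

theorem addD_lt : ∀ (k u v : ℕ), addD k u v < 3 ^ k
  | 0, _, _ => by simp [addD]
  | k + 1, u, v => by
    have := addD_lt k (u / 3) (v / 3)
    rw [addD, pow_succ]
    omega

theorem linD_lt (k : ℕ) : ∀ (ms : List ℕ) (v : ℕ), linD k ms v < 3 ^ k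
  | [], _ => by simp [linD]
  | _ :: _, _ => addD_lt ..

variable {G : Type*} [Group G] (x : ℕ → G)

theorem val_pw_cons (w : List ℕ) (ws : List (List ℕ)) (v : ℕ) :
    wordVal x (pw (w :: ws) v) = wordVal x w ^ (v % 3) * wordVal x (pw ws (v / 3)) := by
  rw [pw, wordVal_append, wordVal_replicate']

theorem pw_zero : ∀ ws : List (List ℕ), wordVal x (pw ws 0) = 1
  | [] => rfl
  | w :: ws => by rw [val_pw_cons, Nat.zero_mod, pow_zero, one_mul, Nat.zero_div, pw_zero ws]

theorem pw_append : ∀ (ws ws' : List (List ℕ)) (v : ℕ), wordVal x (pw (ws ++ ws') v) =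
    wordVal x (pw ws (v % 3 ^ ws.length)) * wordVal x (pw ws' (v / 3 ^ ws.length))
  | [], ws', v => by rw [List.nil_append, List.length_nil, pow_zero, Nat.div_one, show pw [] (v % 1) = [] from rfl,
      show wordVal x [] = 1 from rfl, one_mul]
  | w :: ws, ws', v => by
    rw [List.cons_append, val_pw_cons, val_pw_cons, pw_append ws ws' (v / 3), List.length_cons, pow_succ',
      Nat.mod_mul_right_div_self, Nat.mod_mul_right_mod, Nat.div_div_eq_div_mul, mul_assoc]

theorem pw_mem {H : Subgroup G} : ∀ {ws : List (List ℕ)}, (∀ w ∈ ws, wordVal x w ∈ H) → ∀ v : ℕ,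
    wordVal x (pw ws v) ∈ H
  | [], _, _ => H.one_mem
  | w :: ws, h, v => by
    rw [val_pw_cons]
    exact H.mul_mem (H.pow_mem (h w (by simp)) _) (pw_mem (fun u hu => h u (by simp [hu])) _)

theorem pow_mod_three {g : G} (hg : g ^ 3 = 1) (a : ℕ) : g ^ a = g ^ (a % 3) := pow_eq_pow_mod a hg

/-- Commuting words of exponent three multiply digitwise. -/
theorem pw_addD : ∀ {ws : List (List ℕ)}, (∀ a ∈ ws, wordVal x a ^ 3 = 1) →
    (∀ a ∈ ws, ∀ b ∈ ws, Commute (wordVal x a) (wordVal x b)) → ∀ u v : ℕ,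
      wordVal x (pw ws (addD ws.length u v)) = wordVal x (pw ws u) * wordVal x (pw ws v)
  | [], _, _, _, _ => (one_mul _).symm
  | w :: ws, h3, hc, u, v => by
    have ih := pw_addD (ws := ws) (fun a ha => h3 a (by simp [ha])) (fun a ha b hb => hc a (by simp [ha]) b (by simp [hb]))
      (u / 3) (v / 3)
    have hcomm : Commute (wordVal x (pw ws (u / 3))) (wordVal x w ^ (v % 3)) := by
      refine ((?_ : Commute (wordVal x w) (wordVal x (pw ws (u / 3)))).symm).pow_right _
      have hmem := pw_mem x (H := Subgroup.centralizer {wordVal x w}) (ws := ws)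
        (fun a ha => Subgroup.mem_centralizer_singleton_iff.2 (hc a (by simp [ha]) w (by simp))) (u / 3)
      exact (Subgroup.mem_centralizer_singleton_iff.1 hmem).symm
    rw [List.length_cons, addD, val_pw_cons, val_pw_cons, val_pw_cons,
      show ((u % 3 + v % 3) % 3 + 3 * addD ws.length (u / 3) (v / 3)) % 3 = (u % 3 + v % 3) % 3 by omega,
      show ((u % 3 + v % 3) % 3 + 3 * addD ws.length (u / 3) (v / 3)) / 3 = addD ws.length (u / 3) (v / 3) by omega,
      ih, ← pow_mod_three (h3 w (by simp)), pow_add]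
    simp only [mul_assoc]
    rw [← mul_assoc (wordVal x w ^ (v % 3)), ← hcomm.eq, mul_assoc]

/-- A map given on the basis moves past an element. -/
theorem pw_linD {as : List (List ℕ)} (h3 : ∀ a ∈ as, wordVal x a ^ 3 = 1)
    (hc : ∀ a ∈ as, ∀ b ∈ as, Commute (wordVal x a) (wordVal x b)) {g : G} :
    ∀ {ws : List (List ℕ)} {ms : List ℕ},
      List.Forall₂ (fun w m => g * wordVal x w = wordVal x (pw as m) * g) ws ms → ∀ v : ℕ,
        g * wordVal x (pw ws v) = wordVal x (pw as (linD as.length ms v)) * g := by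
  intro ws ms h
  induction h with
  | nil => intro v; rw [linD, pw_zero, one_mul]; exact mul_one g
  | @cons w m ws ms h1 _ ih =>
    intro v
    rw [val_pw_cons, linD, pw_addD x h3 hc, ← mul_assoc]
    have hsc : SemiconjBy g (wordVal x w) (wordVal x (pw as m)) := h1
    have hp : wordVal x (pw as (if v % 3 = 0 then 0 else if v % 3 = 1 then m else addD as.length m m)) =
        wordVal x (pw as m) ^ (v % 3) := by
      have := Nat.mod_lt v (show 0 < 3 by norm_num)
      interval_cases v % 3
      · simp [pw_zero]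
      · simp
      · simp [pw_addD x h3 hc, pow_two]
    rw [hp, (hsc.pow_right _).eq, mul_assoc, ih, mul_assoc]

variable {n : ℕ} (f : G →* Equiv.Perm (Fin n))

/-- Normal forms along a series with cyclic steps of order three. -/
theorem pw_series [Finite G] : ∀ {ws : List (List ℕ)},
    (∀ w ∈ ws, wordVal x w ^ 3 = 1) →
    (∀ (i j : ℕ), i < j → j < ws.length → ∃ c, wordVal x (ws.getD i []) * wordVal x (ws.getD j []) =
      wordVal x (pw (ws.drop (i + 1)) c) * wordVal x (ws.getD i [])) →
    (∀ i < ws.length, ∃ (O : Set (Fin n)) (p : Fin n), p ∈ O ∧ f (wordVal x (ws.getD i [])) p ∉ O ∧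
      ∀ j, i < j → j < ws.length → ∀ q ∈ O, f (wordVal x (ws.getD j [])) q ∈ O) →
    ∃ H : Subgroup G, Nat.card H = 3 ^ ws.length ∧ (∀ w ∈ ws, wordVal x w ∈ H) ∧
      (∀ g ∈ H, ∃ v < 3 ^ ws.length, g = wordVal x (pw ws v)) ∧
      ∀ u < 3 ^ ws.length, ∀ v < 3 ^ ws.length, wordVal x (pw ws u) = wordVal x (pw ws v) → u = v := by
  intro ws
  induction ws with
  | nil =>
    intro _ _ _
    refine ⟨⊥, by simp, by simp, fun g hg => ⟨0, by simp, by rw [Subgroup.mem_bot.1 hg, pw_zero]⟩,
      fun u hu v hv _ => ?_⟩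
    simp at hu hv
    omega
  | cons w ws ih =>
    intro h3 hrel horb
    obtain ⟨H, hH, hmemH, hnf, huniq⟩ := ih (fun a ha => h3 a (by simp [ha]))
      (fun i j hij hj => by
        obtain ⟨c, hc⟩ := hrel (i + 1) (j + 1) (by omega) (by simp; omega)
        exact ⟨c, by simpa using hc⟩)
      (fun i hi => by
        obtain ⟨O, p, h1, h2, h3⟩ := horb (i + 1) (by simp; omega)
        exact ⟨O, p, h1, by simpa using h2, fun j hij hj q hq => by simpa using h3 (j + 1) (by omega) (by simp; omega) q hq⟩)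
    set y := wordVal x w with hy
    have hy3 : y ^ 3 = 1 := h3 w (by simp)
    have hHsub : H = Subgroup.closure (wordVal x '' {a | a ∈ ws}) := by
      refine le_antisymm (fun g hg => ?_) ((Subgroup.closure_le _).2 ?_)
      · obtain ⟨v, -, rfl⟩ := hnf g hg
        exact pw_mem x (H := Subgroup.closure (wordVal x '' {a | a ∈ ws})) (fun a ha => Subgroup.subset_closure ⟨a, ha, rfl⟩) v
      · rintro _ ⟨a, ha, rfl⟩; exact hmemH a ha
    have hconj : H.map (MulAut.conj y).toMonoidHom = H := by
      refine Subgroup.eq_of_le_of_card_ge ?_ (le_of_eq (Subgroup.card_map_of_injective (MulAut.conj y).injective).symm)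
      rw [Subgroup.map_le_iff_le_comap]
      nth_rw 1 [hHsub]
      rw [Subgroup.closure_le]
      rintro _ ⟨a, ha, rfl⟩
      obtain ⟨j, hj, rfl⟩ := List.getElem_of_mem ha
      obtain ⟨c, hc⟩ := hrel 0 (j + 1) (by omega) (by simp; omega)
      simp only [List.getD_cons_zero, List.getD_cons_succ, List.drop_succ_cons, List.drop_zero,
        List.getD_eq_getElem _ _ hj] at hc
      show y * wordVal x ws[j] * y⁻¹ ∈ H
      rw [hc, mul_inv_cancel_right]
      exact pw_mem x hmemH c
    have hsc : ∀ a : ℕ, ∀ h ∈ H, y ^ a * h * (y ^ a)⁻¹ ∈ H := by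
      intro a
      induction a with
      | zero => intro h hh; simpa using hh
      | succ a iha =>
        intro h hh
        have h1 : y * h * y⁻¹ ∈ H := by rw [← hconj]; exact ⟨h, hh, rfl⟩
        have := iha _ h1
        rw [pow_succ, mul_inv_rev]
        simpa [mul_assoc] using this
    obtain ⟨O, p, hp, hyp, hO⟩ := horb 0 (by simp)
    simp only [List.getD_cons_zero, ← hy] at hyp
    have hfix : ∀ h ∈ H, f h p ∈ O := by
      have key : ∀ h ∈ H, ∀ q, q ∈ O → f h q ∈ O := by
        intro h hh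
        rw [hHsub] at hh
        have hh' : h ∈ Submonoid.closure (wordVal x '' {a | a ∈ ws}) := by
          rw [← Subgroup.closure_toSubmonoid_of_finite]; exact hh
        refine Submonoid.closure_induction (motive := fun g _ => ∀ q, q ∈ O → f g q ∈ O) ?_ ?_ ?_ hh'
        · rintro _ ⟨a, ha, rfl⟩ q hq
          obtain ⟨j, hj, rfl⟩ := List.getElem_of_mem ha
          have := hO (j + 1) (by omega) (by simp; omega) q hq
          rw [List.getD_cons_succ, List.getD_eq_getElem _ _ hj] at this
          exact this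
        · intro q hq; simpa using hq
        · intro a b _ _ ha hb q hq
          rw [map_mul, Equiv.Perm.mul_apply]
          exact ha _ (hb q hq)
      exact fun h hh => key h hh p hp
    have hnot : ∀ e, 0 < e → e < 3 → y ^ e ∉ H := fun e he he' hm => by
      have hym : y ∈ H := by
        interval_cases e
        · simpa using hm
        · have h4 : y = (y ^ 2) ^ 2 := by rw [← pow_mul, pow_mod_three hy3]; simp
          rw [h4]; exact H.pow_mem hm 2
      exact hyp (hfix y hym)
    have hexp : ∀ e e' : ℕ, e < 3 → e' < 3 → ∀ a ∈ H, ∀ b ∈ H, y ^ e * a = y ^ e' * b → e = e' := by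
      intro e e' he he' a ha b hb h
      by_contra hne
      rcases Nat.lt_or_gt_of_ne hne with hlt | hlt
      · obtain ⟨d, rfl⟩ : ∃ d, e' = e + d := ⟨e' - e, by omega⟩
        rw [pow_add, mul_assoc, mul_right_inj] at h
        exact hnot d (by omega) (by omega) (by rw [show y ^ d = a * b⁻¹ by rw [h]; group]; exact mul_mem ha (inv_mem hb))
      · obtain ⟨d, rfl⟩ : ∃ d, e = e' + d := ⟨e - e', by omega⟩
        rw [pow_add, mul_assoc, mul_right_inj] at h
        exact hnot d (by omega) (by omega) (by rw [show y ^ d = b * a⁻¹ by rw [← h]; group]; exact mul_mem hb (inv_mem ha))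
    let K : Subgroup G :=
      { carrier := {g | ∃ e : ℕ, ∃ h ∈ H, g = y ^ e * h}
        one_mem' := ⟨0, 1, H.one_mem, by simp⟩
        mul_mem' := by
          rintro _ _ ⟨e, h, hh, rfl⟩ ⟨e', h', hh', rfl⟩
          refine ⟨e + e', y ^ (2 * e') * h * (y ^ (2 * e'))⁻¹ * h', mul_mem (hsc _ h hh) hh', ?_⟩
          have e1 : y ^ (2 * e') * y ^ e' = 1 := by
            rw [← pow_add, show 2 * e' + e' = 3 * e' by omega, pow_mul, hy3, one_pow]
          have e2 : y ^ e' * y ^ (2 * e') = 1 := by rw [← pow_add, add_comm, pow_add, e1]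
          rw [pow_add, inv_eq_of_mul_eq_one_right e1]
          calc y ^ e * h * (y ^ e' * h') = y ^ e * (y ^ e' * y ^ (2 * e')) * h * (y ^ e' * h') := by rw [e2, mul_one]
            _ = _ := by simp only [mul_assoc]
        inv_mem' := by
          rintro _ ⟨e, h, hh, rfl⟩
          refine ⟨2 * e, y ^ e * h⁻¹ * (y ^ e)⁻¹, hsc e _ (inv_mem hh), ?_⟩
          have e1 : y ^ (2 * e) * y ^ e = 1 := by
            rw [← pow_add, show 2 * e + e = 3 * e by omega, pow_mul, hy3, one_pow]
          rw [mul_inv_rev, ← mul_assoc, ← mul_assoc, e1, one_mul] }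
    have hnfK : ∀ g ∈ K, ∃ v < 3 ^ (w :: ws).length, g = wordVal x (pw (w :: ws) v) := by
      rintro g ⟨e, h, hh, rfl⟩
      obtain ⟨v, hv, rfl⟩ := hnf h hh
      refine ⟨e % 3 + 3 * v, by rw [List.length_cons, pow_succ]; omega, ?_⟩
      rw [val_pw_cons, show (e % 3 + 3 * v) % 3 = e % 3 by omega, show (e % 3 + 3 * v) / 3 = v by omega,
        ← pow_mod_three hy3]
    have hu : ∀ u < 3 ^ (w :: ws).length, ∀ v < 3 ^ (w :: ws).length,
        wordVal x (pw (w :: ws) u) = wordVal x (pw (w :: ws) v) → u = v := by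
      intro u hu v hv h
      rw [val_pw_cons, val_pw_cons] at h
      rw [List.length_cons, pow_succ] at hu hv
      have e := hexp _ _ (Nat.mod_lt _ (by norm_num)) (Nat.mod_lt _ (by norm_num)) _ (pw_mem x hmemH _) _
        (pw_mem x hmemH _) h
      rw [e, mul_right_inj] at h
      have := huniq _ (by omega) _ (by omega) h
      omega
    refine ⟨K, ?_, ?_, hnfK, hu⟩
    · let φ : Fin (3 ^ (w :: ws).length) → K := fun v =>
        ⟨wordVal x (pw (w :: ws) v), v.1 % 3, wordVal x (pw ws (v.1 / 3)), pw_mem x hmemH _, val_pw_cons x w ws v.1⟩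
      have hb : Function.Bijective φ := ⟨fun a b h => Fin.ext (hu _ a.2 _ b.2 (congrArg Subtype.val h)),
        fun g => (hnfK g g.2).elim fun v hv => ⟨⟨v, hv.1⟩, Subtype.ext hv.2.symm⟩⟩
      rw [← Nat.card_eq_of_bijective φ hb, Nat.card_fin]
    · intro a ha
      rcases List.mem_cons.1 ha with rfl | ha
      · exact ⟨1, 1, H.one_mem, by rw [pow_one, mul_one]⟩
      · exact ⟨0, _, hmemH a ha, by rw [pow_zero, one_mul]⟩

end Cfsg.Lib.CosetEnum.Fi22Norm.ThreeLocal
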